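import Cfsg.Agent.Suzuki2.TypeA

/-!
Suzuki 2-groups of type A with coordinates compatible with the given automorphism (variants of
`Suzuki2.nonempty_iso_of_squares` and `Suzuki2.exists_typeA`).
-/

set_option autoImplicit false
set_option linter.unusedSectionVars false

namespace Cfsg.Agent.FGS75.ZTU

open Cfsg.Agent.Suzuki2

variable {P P' V Z : Type*} [Group P] [Group P'] [CommGroup V] [CommGroup Z]

theorem exists_iso_of_squares [Finite P] [Finite P'] (π : P →* V) (π' : P' →* V)
    (hπ : Function.Surjective π) (hπ' : Function.Surjective π')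
    (hV : ∀ v : V, v * v = 1)
    (ι : Z →* P) (ι' : Z →* P') (hι : Function.Injective ι) (hι' : Function.Injective ι')
    (hker : ι.range = π.ker) (hker' : ι'.range = π'.ker)
    (hc : ∀ z x, ι z * x = x * ι z) (hc' : ∀ z x, ι' z * x = x * ι' z)
    (hsq : ∀ x x', π x = π' x' → ∃ z, x * x = ι z ∧ x' * x' = ι' z) :
    ∃ e : P ≃* P', ∀ x, π' (e x) = π x := by
  classical
  have hmem : ∀ {x : P}, π x = 1 → ∃ z, ι z = x := fun {x} h =>
    MonoidHom.mem_range.1 (hker ▸ (MonoidHom.mem_ker.2 h))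
  have hmem' : ∀ {x : P'}, π' x = 1 → ∃ z, ι' z = x := fun {x} h =>
    MonoidHom.mem_range.1 (hker' ▸ (MonoidHom.mem_ker.2 h))
  have hπι : ∀ z, π (ι z) = 1 := fun z =>
    MonoidHom.mem_ker.1 (hker ▸ ⟨z, rfl⟩ : ι z ∈ π.ker)
  have hπι' : ∀ z, π' (ι' z) = 1 := fun z =>
    MonoidHom.mem_ker.1 (hker' ▸ ⟨z, rfl⟩ : ι' z ∈ π'.ker)
  let M : Subgroup (P × P') := MonoidHom.eqLocus (π.comp (MonoidHom.fst P P'))
    (π'.comp (MonoidHom.snd P P'))
  let Δ : Subgroup (P × P') := (ι.prod ι').range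
  have hΔM : Δ ≤ M := by
    rintro _ ⟨z, rfl⟩
    show π (ι z) = π' (ι' z)
    rw [hπι, hπι']
  have hΔc : ∀ d ∈ Δ, ∀ x : P × P', d * x = x * d := by
    rintro _ ⟨z, rfl⟩ x
    exact Prod.ext (hc z x.1) (hc' z x.2)
  have hMsq : ∀ x ∈ M, x * x ∈ Δ := by
    intro x hx
    obtain ⟨z, h1, h2⟩ := hsq x.1 x.2 hx
    exact ⟨z, Prod.ext h1.symm h2.symm⟩
  -- commutators of elements of `M` lie in `Δ`
  have hMcomm : ∀ x ∈ M, ∀ y ∈ M, ∃ d ∈ Δ, x * y = d * (y * x) := by
    intro x hx y hy
    refine ⟨x * y * x⁻¹ * y⁻¹, ?_, by group⟩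
    have h1 := hMsq _ (M.mul_mem hx hy)
    have h2 := hMsq x hx
    have h3 := hMsq y hy
    have e : x * y * x⁻¹ * y⁻¹ = x * y * (x * y) * ((y * y)⁻¹ * (x * x)⁻¹) := by
      have hy2 := hΔc _ (Δ.inv_mem h3)
      calc x * y * x⁻¹ * y⁻¹ = x * y * x⁻¹ * ((y * y)⁻¹ * y) := by group
        _ = x * y * ((y * y)⁻¹ * x⁻¹) * y := by rw [hy2 x⁻¹]; group
        _ = x * y * ((y * y)⁻¹ * ((x * x)⁻¹ * x)) * y := by group
        _ = x * y * (((y * y)⁻¹ * (x * x)⁻¹) * (x * y)) := by group
        _ = x * y * ((x * y) * ((y * y)⁻¹ * (x * x)⁻¹)) := by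
            rw [hΔc _ (Δ.mul_mem (Δ.inv_mem h3) (Δ.inv_mem h2)) (x * y)]
        _ = _ := by group
    rw [e]
    exact Δ.mul_mem h1 (Δ.mul_mem (Δ.inv_mem h3) (Δ.inv_mem h2))
  -- a maximal subgroup meeting the kernel of the first projection trivially
  let good : Subgroup (P × P') → Prop := fun L =>
    Δ ≤ L ∧ L ≤ M ∧ ∀ k : P, π k = 1 → (k, (1 : P')) ∈ L → k = 1
  have hΔgood : good Δ := by
    refine ⟨le_rfl, hΔM, fun k _ hmem => ?_⟩
    obtain ⟨z, hz⟩ := hmem
    have h2 : ι' z = 1 := congrArg Prod.snd hz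
    rw [← map_one ι'] at h2
    rw [hι' h2] at hz
    exact ((map_one ι).symm.trans (congrArg Prod.fst hz)).symm
  obtain ⟨L, ⟨hΔL, hLM, hL⟩, hmax⟩ :=
    (Set.toFinite {L | good L}).exists_maximal ⟨Δ, hΔgood⟩
  -- `L` together with the kernel covers `M`
  have hcover : ∀ m ∈ M, ∃ k : P, π k = 1 ∧ m * (k, 1) ∈ L := by
    intro m hm
    by_contra hno
    simp only [not_exists, not_and] at hno
    have hsw : ∀ l ∈ L, ∃ l' ∈ L, m * l = l' * m := fun l hl => by
      obtain ⟨d, hd, he⟩ := hMcomm m hm l (hLM hl)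
      exact ⟨d * l, L.mul_mem (hΔL hd) hl, by rw [he, mul_assoc]⟩
    let L₁ : Subgroup (P × P') :=
      { carrier := {x | x ∈ L ∨ m⁻¹ * x ∈ L}
        one_mem' := Or.inl L.one_mem
        mul_mem' := by
          rintro x y hx hy
          rcases hx with hx | hx <;> rcases hy with hy | hy
          · exact Or.inl (L.mul_mem hx hy)
          · obtain ⟨l', hl', he⟩ := hsw _ hy
            refine Or.inr ?_
            obtain ⟨d, hd, he'⟩ := hMcomm x (hLM hx) m hm
            have : m⁻¹ * (x * y) = d * x * (m⁻¹ * y) := by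
              calc m⁻¹ * (x * y) = m⁻¹ * (x * m) * (m⁻¹ * y) := by group
                _ = m⁻¹ * d * m * x * (m⁻¹ * y) := by rw [he']; group
                _ = _ := by rw [← hΔc d hd m⁻¹]; group
            rw [this]
            exact L.mul_mem (L.mul_mem (hΔL hd) hx) hy
          · exact Or.inr (by rw [← mul_assoc]; exact L.mul_mem hx hy)
          · obtain ⟨l', hl', he⟩ := hsw _ hy
            refine Or.inl ?_
            obtain ⟨l'', hl'', he'⟩ := hsw _ hx
            have : x * y = l'' * (m * m) * (m⁻¹ * y) := by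
              calc x * y = m * (m⁻¹ * x) * m * (m⁻¹ * y) := by group
                _ = _ := by rw [he']; group
            rw [this]
            exact L.mul_mem (L.mul_mem hl'' (hΔL (hMsq m hm))) hy
        inv_mem' := by
          rintro x (hx | hx)
          · exact Or.inl (L.inv_mem hx)
          · refine Or.inr ?_
            obtain ⟨l', hl', he⟩ := hsw _ hx
            have : m⁻¹ * x⁻¹ = (m * m)⁻¹ * l'⁻¹ := by
              calc m⁻¹ * x⁻¹ = m⁻¹ * (m * (m⁻¹ * x))⁻¹ := by group
                _ = _ := by rw [he]; group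
            rw [this]
            exact L.mul_mem (L.inv_mem (hΔL (hMsq m hm))) (L.inv_mem hl') }
    have hgood : good L₁ := by
      refine ⟨fun x hx => Or.inl (hΔL hx), ?_, fun k hk hmem => ?_⟩
      · rintro x (hx | hx)
        · exact hLM hx
        · have := M.mul_mem hm (hLM hx)
          rwa [mul_inv_cancel_left] at this
      · rcases hmem with hmem | hmem
        · exact hL k hk hmem
        · exfalso
          obtain ⟨z, rfl⟩ : ∃ z, ι z = k := MonoidHom.mem_range.1 (hker ▸ (MonoidHom.mem_ker.2 hk))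
          refine hno (ι z)⁻¹ (by rw [map_inv, hπι, inv_one]) ?_
          have h := L.inv_mem hmem
          have e : m * ((ι z)⁻¹, (1 : P')) = ((ι z)⁻¹, (1 : P')) * m :=
            Prod.ext (by
              show m.1 * (ι z)⁻¹ = (ι z)⁻¹ * m.1
              rw [← map_inv, hc]) (by simp)
          rw [e]
          convert h using 1
          rw [mul_inv_rev, inv_inv]
          exact Prod.ext rfl (by simp)
    have hle : L ≤ L₁ := fun x hx => Or.inl hx
    refine hno 1 (map_one π) ?_
    rw [show ((1 : P), (1 : P')) = 1 from rfl, mul_one]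
    exact hmax hgood hle (Or.inr (by simp : m⁻¹ * m ∈ L))
  -- the projections of `L` are bijective
  let p₁ : L →* P := (MonoidHom.fst P P').comp L.subtype
  let p₂ : L →* P' := (MonoidHom.snd P P').comp L.subtype
  have hb₁ : Function.Bijective p₁ := by
    constructor
    · refine (injective_iff_map_eq_one p₁).2 ?_
      rintro ⟨⟨x, x'⟩, hl⟩ h
      have hx : x = 1 := h
      subst hx
      obtain ⟨z, rfl⟩ := hmem' (x := x') ((map_one π).symm.trans (hLM hl : π (1 : P) = π' x')).symm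
      have h1 : ((ι z)⁻¹, (1 : P')) ∈ L := by
        have := L.mul_mem (L.inv_mem (hΔL ⟨z, rfl⟩)) hl
        convert this using 1
        exact Prod.ext (by simp) (by simp)
      have h2 : ι z = 1 :=
        inv_eq_one.1 (hL _ (by rw [map_inv, hπι, inv_one]) h1)
      rw [← map_one ι] at h2
      exact Subtype.ext (Prod.ext rfl (by show ι' z = 1; rw [hι h2, map_one]))
    · intro x
      obtain ⟨x', hx'⟩ := hπ' (π x)
      obtain ⟨k, hk, hkL⟩ := hcover (x, x') hx'.symm
      obtain ⟨z, rfl⟩ := hmem hk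
      refine ⟨⟨_, L.mul_mem hkL (L.inv_mem (hΔL ⟨z, rfl⟩))⟩, ?_⟩
      show x * ι z * (ι z)⁻¹ = x
      group
  have hb₂ : Function.Bijective p₂ := by
    constructor
    · refine (injective_iff_map_eq_one p₂).2 ?_
      rintro ⟨⟨x, x'⟩, hl⟩ h
      have hx : x' = 1 := h
      subst hx
      exact Subtype.ext (Prod.ext (hL x ((hLM hl : π x = π' (1 : P')).trans (map_one π')) hl) rfl)
    · intro x'
      obtain ⟨x, hx⟩ := hπ (π' x')
      obtain ⟨k, -, hkL⟩ := hcover (x, x') hx
      exact ⟨⟨_, hkL⟩, mul_one x'⟩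
  refine ⟨(MulEquiv.ofBijective p₁ hb₁).symm.trans (MulEquiv.ofBijective p₂ hb₂), fun x => ?_⟩
  obtain ⟨⟨⟨y, y'⟩, hl⟩, rfl⟩ := hb₁.2 x
  have e1 : (MulEquiv.ofBijective p₁ hb₁).symm (p₁ ⟨(y, y'), hl⟩) = ⟨(y, y'), hl⟩ :=
    (MulEquiv.ofBijective p₁ hb₁).injective ((MulEquiv.apply_symm_apply _ _).trans rfl)
  rw [MulEquiv.trans_apply, e1]
  exact (hLM hl).symm


section
variable {P : Type*} [Group P] {σ : MulAut P}

theorem exists_typeA_coord (hd : Data σ) (hcard : Nat.card P = Nat.card (Subgroup.center P) ^ 2) :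
    ∃ (F : Type) (_ : Field F) (_ : Fintype F) (φ : F ≃+* F),
      Fintype.card F = Nat.card (Subgroup.center P) ∧ φ ≠ RingEquiv.refl F ∧ Odd (orderOf φ) ∧
      ∃ (i : P ≃* Cfsg.suzukiTypeA F (φ : F →+* F)) (l : F),
        (∀ x : P, Multiplicative.toAdd (typeAFst (φ : F →+* F) (i (σ x))) =
          l * Multiplicative.toAdd (typeAFst (φ : F →+* F) (i x))) ∧
        ∀ x : F, x ≠ 0 → ∃ k : ℕ, l ^ k = x := by
  classical
  haveI := hd.finite
  haveI : Fact (Nat.Prime 2) := ⟨Nat.prime_two⟩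
  set Z := Subgroup.center P with hZ
  have hinvσ : ∀ x : P, x ∈ Z → ∀ i : ℕ, (σ ^ i) x ∈ Z := fun x hx i => by
    rw [mem_center_iff_sq hd] at hx ⊢; rw [← map_mul, hx, map_one]
  set M := stepSubgroup (center_good hd) (⊤ : Subgroup P) with hM
  have hMσ : ∀ y ∈ M, σ y ∈ M := fun y hy =>
    stepSubgroup_inv hd (center_good hd) (fun x _ => Subgroup.mem_top _) hy
  obtain ⟨y₀, -, hy₀Z, hy₀2, hy₀c⟩ := exists_step hd (center_good hd) ⊤ inferInstance (by
    obtain ⟨a, b, hab⟩ := hd.noncomm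
    exact ⟨a, Subgroup.mem_top a, fun h => hab (Subgroup.mem_center_iff.1 h b).symm⟩)
  have hy₀M : y₀ ∈ M := ⟨Subgroup.mem_top _, hy₀2, hy₀c⟩
  have honto : ∀ u : Z, ∃ x ∈ M, x * x = u := by
    rintro ⟨u, hu⟩
    by_cases hu1 : u = 1
    · exact ⟨1, M.one_mem, by simp [hu1]⟩
    have h1 : y₀ * y₀ ≠ 1 := fun h => hy₀Z ((mem_center_iff_sq hd).2 h)
    obtain ⟨i, hi⟩ := hd.trans (y₀ * y₀) u h1 ((mem_center_iff_sq hd).1 hy₀2) hu1
      ((mem_center_iff_sq hd).1 hu)
    exact ⟨(σ ^ i) y₀, pow_apply_mem (S := (M : Set P)) hMσ hy₀M i, by rw [← map_mul]; exact hi⟩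
  choose rt hrtM hrt using honto
  let comb : Z × Z → P := fun p => rt p.1 * p.2.1
  have hsqz : ∀ (x : P) (z : Z), x * z.1 * (x * z.1) = x * x := by
    intro x z
    have h1 := center_sq hd z.1 z.2
    calc x * z.1 * (x * z.1) = x * (z.1 * x) * z.1 := by group
      _ = x * (x * z.1) * z.1 := by rw [← Subgroup.mem_center_iff.1 z.2 x]
      _ = x * x * (z.1 * z.1) := by group
      _ = x * x := by rw [h1, mul_one]
  have hcombinj : Function.Injective comb := by
    rintro ⟨u, z⟩ ⟨u', z'⟩ h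
    have h1 : rt u * z.1 * (rt u * z.1) = rt u' * z'.1 * (rt u' * z'.1) := by
      rw [show rt u * z.1 = rt u' * z'.1 from h]
    rw [hsqz, hsqz, hrt, hrt] at h1
    obtain rfl : u = u' := Subtype.ext h1
    exact congrArg (Prod.mk u) (Subtype.ext (mul_left_cancel h))
  have hcomb : Function.Bijective comb :=
    (Nat.bijective_iff_injective_and_card comb).2 ⟨hcombinj, by
      rw [Nat.card_prod, hcard, pow_two]⟩
  have hMtop : ∀ x : P, x ∈ M := fun x => by
    obtain ⟨⟨u, z⟩, rfl⟩ := hcomb.2 x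
    exact M.mul_mem (hrtM u) (le_stepSubgroup hd (center_good hd) le_top z.2)
  have hsqmem : ∀ x : P, x * x ∈ Z := fun x => (hMtop x).2.1
  have hcommmem : ∀ x p : P, x⁻¹ * p⁻¹ * x * p ∈ Z := fun x p => (hMtop x).2.2 p
  have hsqinj : ∀ x y : P, x * x = y * y → x⁻¹ * y ∈ Z := by
    intro x y h
    obtain ⟨⟨u, z⟩, rfl⟩ := hcomb.2 x
    obtain ⟨⟨u', z'⟩, rfl⟩ := hcomb.2 y
    simp only [comb] at h ⊢
    rw [hsqz, hsqz, hrt, hrt] at h
    obtain rfl : u = u' := Subtype.ext h
    rw [mul_inv_rev, mul_assoc, inv_mul_cancel_left]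
    exact Z.mul_mem (Z.inv_mem z.2) z'.2
  -- the quotient
  letI : CommGroup (P ⧸ Z) :=
    { (inferInstance : Group (P ⧸ Z)) with
      mul_comm := fun a b => by
        induction a using QuotientGroup.induction_on with
        | H x =>
          induction b using QuotientGroup.induction_on with
          | H y =>
            rw [← QuotientGroup.mk_mul, ← QuotientGroup.mk_mul, QuotientGroup.eq]
            have := hcommmem y x
            have e : (x * y)⁻¹ * (y * x) = y⁻¹ * x⁻¹ * y * x := by group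
            rw [e]; exact this }
  have hmapZ : Z ≤ Z.comap σ.toMonoidHom := fun x hx => by
    simpa using hinvσ x hx 1
  let s : AddMonoid.End (Additive (P ⧸ Z)) :=
    MonoidHom.toAdditive (QuotientGroup.map Z Z σ.toMonoidHom hmapZ)
  have hspow : ∀ (i : ℕ) (x : P), (s ^ i) (Additive.ofMul (x : P ⧸ Z)) =
      Additive.ofMul (((σ ^ i) x : P) : P ⧸ Z) := by
    intro i
    induction i with
    | zero => intro x; rfl
    | succ i ih =>
      intro x
      rw [pow_succ', pow_apply_succ]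
      show s ((s ^ i) _) = _
      rw [ih]; rfl
  let I := invSubgroup hd
  letI : CommGroup I :=
    { (inferInstance : Group I) with
      mul_comm := fun a b => Subtype.ext (invol_central hd a.2 b) }
  let t : AddMonoid.End (Additive I) :=
    MonoidHom.toAdditive
      ((σ.toMonoidHom.comp I.subtype).codRestrict I fun a => by
        show σ a.1 * σ a.1 = 1
        rw [← map_mul, show a.1 * a.1 = 1 from a.2, map_one])
  have htpow : ∀ (i : ℕ) (a : Additive I),
      ((Additive.toMul ((t ^ i) a) : I) : P) = (σ ^ i) (Additive.toMul a).1 := by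
    intro i
    induction i with
    | zero => intro a; rfl
    | succ i ih =>
      intro a
      rw [pow_apply_succ, ← ih a, pow_succ']
      rfl
  have hext : ∀ {a b : Additive I}, (Additive.toMul a : I).1 = (Additive.toMul b : I).1 → a = b :=
    fun h => Additive.toMul.injective (Subtype.ext h)
  -- the field
  obtain ⟨n, hn⟩ := IsPGroup.iff_card.1 (hd.pgroup.to_subgroup Z)
  have hn0 : n ≠ 0 := by
    intro h
    rw [h, pow_zero, Subgroup.card_eq_one] at hn
    exact hy₀Z ((mem_center_iff_sq hd).2 (Subgroup.mem_bot.1 (hn.le hy₀2)))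
  let F := GaloisField 2 n
  letI : Fintype F := Fintype.ofFinite F
  have hF : Fintype.card F = Nat.card Z := by
    rw [hn, ← Nat.card_eq_fintype_card]; exact GaloisField.card 2 n hn0
  have hI : Nat.card I = Nat.card Z :=
    Nat.card_congr (Equiv.subtypeEquivRight fun x => (mem_center_iff_sq hd).symm)
  obtain ⟨e, l, he, hl⟩ := exists_model (E := Additive (P ⧸ Z)) (σ := s) (by
      intro a b ha hb
      obtain ⟨x, rfl⟩ : ∃ x : P, Additive.ofMul (x : P ⧸ Z) = a :=
        ⟨(Additive.toMul a).out, congrArg Additive.ofMul (QuotientGroup.out_eq' _)⟩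
      obtain ⟨y, rfl⟩ : ∃ y : P, Additive.ofMul (y : P ⧸ Z) = b :=
        ⟨(Additive.toMul b).out, congrArg Additive.ofMul (QuotientGroup.out_eq' _)⟩
      have hx1 : x * x ≠ 1 := fun h => ha (congrArg Additive.ofMul
        ((QuotientGroup.eq_one_iff x).2 ((mem_center_iff_sq hd).2 h)))
      have hy1 : y * y ≠ 1 := fun h => hb (congrArg Additive.ofMul
        ((QuotientGroup.eq_one_iff y).2 ((mem_center_iff_sq hd).2 h)))
      obtain ⟨i, hi⟩ := hd.trans (x * x) (y * y) hx1 ((mem_center_iff_sq hd).1 (hsqmem x)) hy1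
        ((mem_center_iff_sq hd).1 (hsqmem y))
      refine ⟨i, ?_⟩
      rw [hspow]
      exact congrArg Additive.ofMul (QuotientGroup.eq.2 (hsqinj _ _ (by rw [← map_mul]; exact hi))))
    (by
      intro a ha
      obtain ⟨x, rfl⟩ : ∃ x : P, Additive.ofMul (x : P ⧸ Z) = a :=
        ⟨(Additive.toMul a).out, congrArg Additive.ofMul (QuotientGroup.out_eq' _)⟩
      have h1 : σ x ∈ Z := (QuotientGroup.eq_one_iff _).1 (congrArg Additive.toMul ha)
      refine congrArg Additive.ofMul ((QuotientGroup.eq_one_iff x).2 ?_)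
      rw [mem_center_iff_sq hd] at h1 ⊢
      rw [← map_mul] at h1
      exact EmbeddingLike.map_eq_one_iff.1 h1)
    F (by
      have h := Subgroup.card_eq_card_quotient_mul_card_subgroup Z
      rw [hcard, pow_two] at h
      rw [hF]
      exact (Nat.eq_of_mul_eq_mul_right Nat.card_pos h).symm)
  obtain ⟨e', l', he', hl'⟩ := exists_model (E := Additive I) (σ := t) (by
      intro a b ha hb
      obtain ⟨i, hi⟩ := hd.trans _ _ (fun h => ha (hext h)) (Additive.toMul a).2
        (fun h => hb (hext h)) (Additive.toMul b).2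
      exact ⟨i, hext ((htpow i a).trans hi)⟩)
    (by
      intro a ha
      refine hext ?_
      have h : σ (Additive.toMul a).1 = 1 := congrArg (fun a : Additive I => (Additive.toMul a).1) ha
      exact EmbeddingLike.map_eq_one_iff.1 h)
    F (by rw [hF, ← hI]; rfl)
  let π₀ : P → F := fun x => e (Additive.ofMul (x : P ⧸ Z))
  have hπ₀mul : ∀ x y, π₀ (x * y) = π₀ x + π₀ y := fun x y =>
    (map_add e (Additive.ofMul (x : P ⧸ Z)) (Additive.ofMul (y : P ⧸ Z)))
  have hπ₀surj : ∀ v, ∃ x, π₀ x = v := fun v => by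
    obtain ⟨x, hx⟩ := QuotientGroup.mk_surjective (Additive.toMul (e.symm v))
    exact ⟨x, by simp [π₀, hx]⟩
  have hπ₀iff : ∀ x, π₀ x = 0 ↔ x ∈ Z := fun x => by
    simp [π₀, QuotientGroup.eq_one_iff]
  let π : P →* Multiplicative F :=
    { toFun := fun x => Multiplicative.ofAdd (π₀ x)
      map_one' := by rw [(hπ₀iff 1).2 Z.one_mem]; rfl
      map_mul' := fun x y => by rw [hπ₀mul, ofAdd_add] }
  -- squares in coordinates
  let S : P → F := fun x => e' (Additive.ofMul ⟨x * x, (mem_center_iff_sq hd).1 (hsqmem x)⟩)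
  have hScong : ∀ x y, π₀ x = π₀ y → S x = S y := by
    intro x y h
    have h1 : x⁻¹ * y ∈ Z := by
      have : (x : P ⧸ Z) = (y : P ⧸ Z) := e.injective h
      exact QuotientGroup.eq.1 this
    simp only [S]
    congr 2
    refine Subtype.ext ?_
    have h2 := hsqz x ⟨_, h1⟩
    simp only [mul_inv_cancel_left] at h2
    exact h2.symm
  choose lift hlift using hπ₀surj
  let Q0 : F → F := fun v => S (lift v)
  have hSQ : ∀ x, S x = Q0 (π₀ x) := fun x => hScong _ _ (hlift _).symm
  have hQ0 : ∀ v, Q0 v = 0 ↔ v = 0 := by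
    intro v
    have h : Q0 v = 0 ↔ lift v ∈ Z := by
      simp only [Q0, S]
      rw [AddEquiv.map_eq_zero_iff]
      refine Iff.trans ?_ (mem_center_iff_sq hd).symm
      exact ⟨fun h => congrArg (fun a : Additive I => (Additive.toMul a).1) h, fun h => hext h⟩
    rw [h, ← hπ₀iff, hlift]
  have hQ0inj : ∀ v w, Q0 v = Q0 w → v = w := by
    intro v w h
    have h1 : lift v * lift v = lift w * lift w :=
      congrArg (fun a : Additive I => (Additive.toMul a).1) (e'.injective h)
    rw [← hlift v, ← hlift w]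
    exact congrArg (fun q => e (Additive.ofMul q)) (QuotientGroup.eq.2 (hsqinj _ _ h1))
  have hQ0l : ∀ v, Q0 (l * v) = l' * Q0 v := by
    intro v
    have h1 : π₀ (σ (lift v)) = l * v := by
      conv_rhs => rw [← hlift v]
      exact he (Additive.ofMul (lift v : P ⧸ Z))
    rw [← h1, ← hSQ]
    simp only [S, Q0]
    rw [← he']
    exact congrArg e' (hext (by
      show σ (lift v) * σ (lift v) = σ (lift v * lift v)
      rw [map_mul]))
  haveI : CharP F 2 := inferInstance
  set c₀ := Q0 1 with hc₀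
  have hc₀0 : c₀ ≠ 0 := fun h => one_ne_zero ((hQ0 1).1 h)
  let Q : F → F := fun v => Q0 v / c₀
  have hQpow : ∀ i : ℕ, Q (l ^ i) = l' ^ i := by
    intro i
    induction i with
    | zero => simp only [Q, pow_zero]; exact div_self hc₀0
    | succ i ih =>
      simp only [Q] at ih ⊢
      rw [pow_succ', hQ0l, mul_div_assoc, ih, ← pow_succ']
  have hQ00 : Q0 0 = 0 := (hQ0 0).2 rfl
  have hQmul : ∀ a b, Q (a * b) = Q a * Q b := by
    intro a b
    by_cases ha : a = 0
    · simp [Q, ha, hQ00]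
    by_cases hb : b = 0
    · simp [Q, hb, hQ00]
    obtain ⟨i, rfl⟩ := hl a ha
    obtain ⟨j, rfl⟩ := hl b hb
    rw [← pow_add, hQpow, hQpow, hQpow, pow_add]
  have hQinj : ∀ v w, Q v = Q w → v = w := fun v w h => hQ0inj v w ((div_left_inj' hc₀0).1 h)
  -- the polar map is the commutator
  have hcI : ∀ x y : P, x⁻¹ * y⁻¹ * x * y ∈ I := fun x y =>
    (mem_center_iff_sq hd).1 (hcommmem x y)
  let Cm : P → P → F := fun x y => e' (Additive.ofMul ⟨y⁻¹ * x⁻¹ * y * x, hcI y x⟩)
  have hpolar : ∀ x y, S (x * y) = S x + S y + Cm x y := by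
    intro x y
    simp only [S, Cm, ← map_add]
    refine congrArg e' (hext ?_)
    show x * y * (x * y) = x * x * (y * y) * (y⁻¹ * x⁻¹ * y * x)
    have hc := Subgroup.mem_center_iff.1 (hcommmem y x)
    calc x * y * (x * y) = x * x * ((y * (y⁻¹ * x⁻¹ * y * x)) * y) := by group
      _ = x * x * ((y * y) * (y⁻¹ * x⁻¹ * y * x)) := by
        rw [mul_assoc y, ← hc y]; group
      _ = _ := by group
  let B0 : F → F → F := fun v w => Q (v + w) - Q v - Q w
  have hB0 : ∀ x y, B0 (π₀ x) (π₀ y) = Cm x y / c₀ := by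
    intro x y
    simp only [B0, Q]
    rw [← hπ₀mul, ← hSQ, ← hSQ, ← hSQ, hpolar]
    rw [← sub_div, ← sub_div]
    congr 1
    ring
  have hCm : ∀ x x' y, Cm (x * x') y = Cm x y + Cm x' y := by
    intro x x' y
    simp only [Cm, ← map_add]
    refine congrArg e' (hext ?_)
    show y⁻¹ * (x * x')⁻¹ * y * (x * x') = (y⁻¹ * x⁻¹ * y * x) * (y⁻¹ * x'⁻¹ * y * x')
    have hc := Subgroup.mem_center_iff.1 (hcommmem y x)
    calc y⁻¹ * (x * x')⁻¹ * y * (x * x')
        = (y⁻¹ * x'⁻¹ * y) * (y⁻¹ * x⁻¹ * y * x) * x' := by group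
      _ = (y⁻¹ * x⁻¹ * y * x) * (y⁻¹ * x'⁻¹ * y) * x' := by rw [hc]
      _ = _ := by group
  have hBadd : ∀ u v w, B0 (u + v) w = B0 u w + B0 v w := by
    intro u v w
    rw [← hlift u, ← hlift v, ← hlift w, ← hπ₀mul, hB0, hB0, hB0, hCm, add_div]
  have hBsymm : ∀ u v, B0 u v = B0 v u := fun u v => by simp only [B0]; rw [add_comm u v]; ring
  obtain ⟨d, hd'⟩ := FieldMaps.exists_coeff₂ 2 (AddMonoidHom.mk'
    (fun x => AddMonoidHom.mk' (B0 x) fun y y' => by rw [hBsymm, hBadd, hBsymm y, hBsymm y'])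
    fun x x' => by ext y; exact hBadd x x' y)
  have hd'' : ∀ x y, B0 x y = ∑ a, ∑ b, d a b * (a x * b y) := hd'
  have hB0ne : ∃ x y, B0 x y ≠ 0 := by
    obtain ⟨x, y, hxy⟩ := hd.noncomm
    refine ⟨π₀ x, π₀ y, fun h => hxy ?_⟩
    rw [hB0, div_eq_zero_iff] at h
    have h1 : e' (Additive.ofMul ⟨y⁻¹ * x⁻¹ * y * x, hcI y x⟩) = 0 := h.resolve_right hc₀0
    rw [AddEquiv.map_eq_zero_iff] at h1
    have h2 : y⁻¹ * x⁻¹ * y * x = 1 := congrArg (fun a : Additive I => (Additive.toMul a).1) h1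
    calc x * y = x * y * (y⁻¹ * x⁻¹ * y * x) := by rw [h2, mul_one]
      _ = y * x := by group
  have hscale : ∀ s a b, d a b * (a s * b s - Q s) = 0 := by
    intro s
    have h := FieldMaps.coeff₂_unique (d := fun a b => d a b * (a s * b s - Q s)) fun x y => by
      have h1 : ∑ a, ∑ b, d a b * (a (s * x) * b (s * y)) = Q s * ∑ a, ∑ b, d a b * (a x * b y) := by
        rw [← hd'', ← hd'']
        simp only [B0]
        rw [← mul_add, hQmul, hQmul, hQmul]
        ring
      rw [Finset.mul_sum] at h1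
      simp only [Finset.mul_sum, map_mul] at h1
      rw [← sub_eq_zero.2 h1, ← Finset.sum_sub_distrib]
      refine Finset.sum_congr rfl fun a _ => ?_
      rw [← Finset.sum_sub_distrib]
      exact Finset.sum_congr rfl fun b _ => by ring
    exact fun a b => congrFun (congrFun h a) b
  obtain ⟨α, β, hαβ⟩ : ∃ α β, d α β ≠ 0 := by
    by_contra h
    simp only [not_exists, not_not] at h
    obtain ⟨x, y, hxy⟩ := hB0ne
    exact hxy (by rw [hd'']; simp [h])
  set φ : F ≃+* F := β.trans α.symm with hφ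
  have hQform : ∀ v, Q v = α (φ v * v) := fun v => by
    have := (mul_eq_zero.1 (hscale v α β)).resolve_left hαβ
    rw [sub_eq_zero] at this
    rw [map_mul, hφ, RingEquiv.trans_apply, RingEquiv.apply_symm_apply, ← this, mul_comm]
  refine ⟨F, inferInstance, inferInstance, φ, hF, fun h => ?_, odd_order_of_injective φ fun u hu => ?_, ?_⟩
  · obtain ⟨x, y, hxy⟩ := hB0ne
    refine hxy ?_
    simp only [B0, hQform, h, RingEquiv.refl_apply]
    rw [← map_sub, ← map_sub, show (x + y) * (x + y) - x * x - y * y = (2 : F) * (x * y) by ring,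
      (CharTwo.two_eq_zero : (2 : F) = 0), zero_mul, map_zero]
  · refine hQinj u 1 ?_
    rw [hQform, hQform, mul_comm, hu, map_one φ, mul_one]
  -- the isomorphism
  let ι : Multiplicative F →* P :=
    { toFun := fun z => (Additive.toMul (e'.symm (c₀ * α (Multiplicative.toAdd z)))).1
      map_one' := by simp
      map_mul' := fun a b => by
        rw [toAdd_mul, map_add, mul_add, map_add]
        rfl }
  suffices hiso : ∃ i : P ≃* Cfsg.suzukiTypeA F (φ : F →+* F), ∀ x, typeAFst (φ : F →+* F) (i x) = π x by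
    obtain ⟨i, hi⟩ := hiso
    refine ⟨i, l, fun x => ?_, hl⟩
    rw [hi, hi]
    exact he (Additive.ofMul (x : P ⧸ Z))
  refine exists_iso_of_squares π (typeAFst (φ : F →+* F)) ?_ (typeAFst_surjective _) ?_ ι
    (typeAIncl _) ?_ (typeAIncl_injective _) ?_ (typeA_range_eq_ker _) ?_ (typeA_central _) ?_
  · intro v
    exact ⟨lift (Multiplicative.toAdd v), congrArg Multiplicative.ofAdd (hlift _)⟩
  · intro v
    rw [← ofAdd_toAdd v, ← ofAdd_add, CharTwo.add_self_eq_zero, ofAdd_zero]
  · intro a b h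
    have h1 := e'.symm.injective (hext h)
    exact Multiplicative.toAdd.injective (α.injective (mul_left_cancel₀ hc₀0 h1))
  · ext x
    rw [MonoidHom.mem_ker]
    constructor
    · rintro ⟨z, rfl⟩
      exact congrArg Multiplicative.ofAdd
        ((hπ₀iff _).2 ((mem_center_iff_sq hd).2 (Additive.toMul (e'.symm _)).2))
    · intro hx
      have hx' : x ∈ Z := (hπ₀iff x).1 (congrArg Multiplicative.toAdd hx)
      refine ⟨Multiplicative.ofAdd (α.symm
        (e' (Additive.ofMul ⟨x, (mem_center_iff_sq hd).1 hx'⟩) / c₀)), ?_⟩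
      show (Additive.toMul (e'.symm (c₀ * α (α.symm _)))).1 = x
      rw [RingEquiv.apply_symm_apply, mul_div_cancel₀ _ hc₀0, AddEquiv.symm_apply_apply]
      rfl
  · intro z x
    exact invol_central hd (Additive.toMul (e'.symm _)).2 x
  · intro x g hxg
    refine ⟨_, ?_, typeA_sq (φ : F →+* F) g⟩
    have h1 : Multiplicative.toAdd (typeAFst (φ : F →+* F) g) = π₀ x :=
      (congrArg Multiplicative.toAdd hxg).symm
    show x * x = (Additive.toMul (e'.symm (c₀ * α ((φ : F →+* F) _ * _)))).1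
    rw [h1, RingEquiv.coe_toRingHom, ← hQform]
    simp only [Q]
    rw [mul_div_cancel₀ _ hc₀0, ← hSQ]
    simp only [S, AddEquiv.symm_apply_apply]
    rfl


end

end Cfsg.Agent.FGS75.ZTU
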