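import Cfsg.Agent.FGS75.ZTU.Iso
import Cfsg.Agent.FGS75.ZTU.Coords
import Cfsg.Agent.SuzukiZ.Odd

/-!
# A simple Zassenhaus group with non-abelian regular 2-kernel is a Suzuki group
-/

set_option autoImplicit false
set_option linter.unusedSectionVars false
set_option maxHeartbeats 800000

namespace Cfsg.Agent.FGS75.ZTU

open Subgroup MulAction RankOne SuzukiZ

variable {G Ω : Type*} [Group G] [Finite G] [MulAction G Ω] [Finite Ω]
variable {a : Ω} {t : G} {U : Subgroup G}

/-- A generator of the two point stabilizer gives a transitive automorphism of the kernel. -/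
theorem exists_suzuki_gen (h : SuzukiZ.Setup G a t U) :
    ∃ g ∈ D a t, (∀ x ∈ D a t, ∃ i : ℕ, g ^ i = x) ∧ ∃ σ : MulAut U, Suzuki2.Data σ ∧
      ∀ (i : ℕ) (x : U), (((σ ^ i) x : U) : G) = g ^ i * x * (g ^ i)⁻¹ := by
  classical
  haveI := h.faithful
  obtain ⟨⟨g, hg⟩, hgen⟩ := h.D_cyclic.exists_generator
  refine ⟨g, hg, fun x hx => ?_, ?_⟩
  · obtain ⟨i, hi⟩ : (⟨x, hx⟩ : D a t) ∈ Submonoid.powers (⟨g, hg⟩ : D a t) :=
      mem_powers_iff_mem_zpowers.2 (hgen _)
    exact ⟨i, by simpa using congrArg Subtype.val hi⟩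
  have hgN : g ∈ Subgroup.normalizer (U : Set G) := by
    rw [Subgroup.mem_normalizer_iff]
    intro z
    refine ⟨fun hz => h.normal g hg.1 z hz, fun hz => ?_⟩
    have := h.normal g⁻¹ ((stabilizer G a).inv_mem hg.1) _ hz
    simpa [mul_assoc] using this
  set σ : MulAut U := Subgroup.normalizerMonoidHom U ⟨g, hgN⟩ with hσ
  have hpow : ∀ (i : ℕ) (x : U), (((σ ^ i) x : U) : G) = g ^ i * x * (g ^ i)⁻¹ := by
    intro i x
    rw [hσ, ← map_pow]
    rfl
  refine ⟨σ, ?_, hpow⟩
  have hinv : ∀ x : U, x ≠ 1 → x * x = 1 → (x : G) ∈ Ia G a := fun x h1 h2 =>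
    ⟨h.le x.2, fun e => h1 (Subtype.ext e), congrArg Subtype.val h2⟩
  obtain ⟨s₁, hs₁, s₂, hs₂, hne, -⟩ := exists_two_Ia h.rankOne h.h2
  refine ⟨inferInstance, h.pgroup, ?_, ⟨⟨s₁, invol_mem_Q h.rankOne hs₁.2.2 hs₁.1⟩,
    ⟨s₂, invol_mem_Q h.rankOne hs₂.2.2 hs₂.1⟩, fun e => hne (congrArg Subtype.val e),
    fun e => hs₁.2.1 (congrArg Subtype.val e), Subtype.ext hs₁.2.2,
    fun e => hs₂.2.1 (congrArg Subtype.val e), Subtype.ext hs₂.2.2⟩,
    fun x y hx hx2 hy hy2 => ?_, fun i x hx hx2 e => ?_⟩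
  · obtain ⟨u, hu, v, hv, huv⟩ := h.noncomm
    exact ⟨⟨u, hu⟩, ⟨v, hv⟩, fun e => huv (congrArg Subtype.val e)⟩
  · obtain ⟨d, hd, e⟩ := h.conj_transitive (hinv x hx hx2) (hinv y hy hy2)
    obtain ⟨i, hi⟩ : (⟨d, hd⟩ : D a t) ∈ Submonoid.powers (⟨g, hg⟩ : D a t) :=
      mem_powers_iff_mem_zpowers.2 (hgen _)
    refine ⟨i, Subtype.ext ?_⟩
    rw [hpow, show g ^ i = d from by simpa using congrArg Subtype.val hi, e]
  · have h1 := congrArg Subtype.val e
    rw [hpow] at h1
    have hgi := h.D_regular ((D a t).pow_mem hg i) (hinv x hx hx2) (mul_inv_eq_iff_eq_mul.1 h1)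
    refine DFunLike.ext _ _ fun y => Subtype.ext ?_
    rw [hpow, hgi]
    simp

/-- `x ↦ x φ(x)` is injective for an automorphism of odd order. -/
theorem nm_injective {F : Type*} [Field F] [Finite F] [CharP F 2] {φ : F ≃+* F}
    (hφ : Odd (orderOf φ)) : Function.Injective (nm φ) := by
  intro u v e
  by_cases hv : v = 0
  · subst hv
    rw [nm_zero] at e
    exact nm_eq_zero e
  · have hr : φ (u / v) * (u / v) = 1 := by
      have hv' : v * φ v ≠ 0 := fun e => hv (nm_eq_zero e)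
      rw [mul_comm]
      show nm φ (u / v) = 1
      rw [nm_div, e]
      exact div_self hv'
    have h1 : φ (φ (u / v)) = u / v := by
      rw [eq_inv_of_mul_eq_one_left hr, map_inv₀, eq_inv_of_mul_eq_one_left hr, inv_inv]
    have h2 := fixed_of_sq_fixed hφ h1
    rw [h2] at hr
    rcases mul_self_eq_one_iff.1 hr with h3 | h3
    · exact (div_eq_one_iff_eq hv).1 h3
    · exact (div_eq_one_iff_eq hv).1 (h3.trans (CharTwo.neg_eq 1))

/-- A Zassenhaus group with a non-abelian 2-kernel has a frame. -/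
theorem exists_frame (h : SuzukiZ.Setup G a t U) (hQ : Nat.card U = q G a ^ 2) :
    ∃ (F : Type) (_ : Field F) (_ : Fintype F) (_ : CharP F 2) (φ : F ≃+* F) (c : F × F → G)
      (d : F → G), Fintype.card F = q G a ∧ φ ≠ RingEquiv.refl F ∧ Odd (orderOf φ) ∧
        Frame φ a t c d := by
  classical
  haveI := h.faithful
  obtain ⟨g, hg, hgen, σ, hd, hpow⟩ := exists_suzuki_gen h
  obtain ⟨n, -, hn⟩ := h.exists_q_eq
  have hQ' : Nat.card U = Nat.card (Subgroup.center U) ^ 2 := by rw [h.card_center]; exact hQ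
  obtain ⟨F, iF, iT, φ, hF, hne, hodd, i, l, hil, hl⟩ := exists_typeA_coord hd hQ'
  rw [h.card_center] at hF
  change Fintype.card F = q G a at hF
  haveI := charTwo_of_card (F := F) (hF.trans hn)
  refine ⟨F, iF, iT, inferInstance, φ, ?_⟩
  -- raw coordinates
  let T₀ : F × F → Cfsg.suzukiTypeA F (φ : F →+* F) := fun p =>
    ⟨Suzuki2.typeAMat _ p.1 p.2, Suzuki2.typeAMat_mem _ _ _⟩
  let e₀ : F × F → U := fun p => i.symm (T₀ p)
  have hT₀mul : ∀ p r, T₀ p * T₀ r = T₀ (pm φ p r) := fun p r =>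
    Subtype.ext (Suzuki2.typeAMat_mul _ _ _ _ _)
  have hT₀bij : Function.Bijective T₀ := by
    refine ⟨fun p r e => ?_, fun x => ?_⟩
    · have e' := congrArg
        (fun x : Cfsg.suzukiTypeA F (φ : F →+* F) => ((x : GL (Fin 3) F) : Matrix (Fin 3) (Fin 3) F)) e
      have e1 : p.1 = r.1 := by simpa [T₀, Suzuki2.typeAMat_val] using congrFun (congrFun e' 1) 0
      have e2 : p.2 = r.2 := by simpa [T₀, Suzuki2.typeAMat_val] using congrFun (congrFun e' 2) 0
      exact Prod.ext e1 e2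
    · obtain ⟨u, v, hx⟩ := (Suzuki2.mem_suzukiTypeA _).1 x.2
      exact ⟨(u, v), Subtype.ext hx.symm⟩
  have he₀mul : ∀ p r, e₀ p * e₀ r = e₀ (pm φ p r) := fun p r => by
    simp only [e₀, ← map_mul, hT₀mul]
  have he₀bij : Function.Bijective e₀ := i.symm.bijective.comp hT₀bij
  choose coord hcoord using he₀bij.2
  have hcmul : ∀ u v : U, coord (u * v) = pm φ (coord u) (coord v) := fun u v =>
    he₀bij.1 (by rw [hcoord, ← he₀mul, hcoord, hcoord])
  -- the action of `σ` in coordinates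
  let τ : F × F → F × F := fun p => coord (σ (e₀ p))
  have hτmul : ∀ p r, τ (pm φ p r) = pm φ (τ p) (τ r) := fun p r => by
    simp only [τ, ← he₀mul, map_mul, hcmul]
  have hfst : ∀ p : F × F,
      Multiplicative.toAdd (Suzuki2.typeAFst (φ : F →+* F) (i (e₀ p))) = p.1 := fun p => by
    simp [e₀, T₀, Suzuki2.typeAFst, Suzuki2.typeAMat_val]
  have hτ1 : ∀ p, (τ p).1 = l * p.1 := fun p => by
    rw [← hfst (τ p), ← hfst p, ← hil]
    simp only [τ, hcoord]
  have hl0 : l ≠ 0 := by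
    intro e
    obtain ⟨x, hx0, hx1⟩ : ∃ x : F, x ≠ 0 ∧ x ≠ 1 := by
      by_contra hcon
      push Not at hcon
      refine hne (RingEquiv.ext fun x => ?_)
      by_cases hx : x = 0
      · simp [hx]
      · simp [hcon x hx]
    obtain ⟨j, hj⟩ := hl x hx0
    rcases Nat.eq_zero_or_pos j with h0 | h0
    · rw [h0, pow_zero] at hj; exact hx1 hj.symm
    · rw [e, zero_pow h0.ne'] at hj; exact hx0 hj.symm
  have hnm := nm_injective (F := F) hodd
  have hnmb : Function.Bijective (nm φ) := nm_bijective fun u v e => hnm e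
  have hτ0 : ∀ y, τ (0, y) = (0, nm φ l * y) := by
    intro y
    obtain ⟨x, rfl⟩ := hnmb.2 y
    have e1 : ((0, nm φ x) : F × F) = pm φ (x, 0) (x, 0) := by
      simp [pm, nm, CharTwo.add_self_eq_zero, mul_comm]
    rw [e1, hτmul]
    have e2 := hτ1 (x, 0)
    ext
    · simp [pm, CharTwo.add_self_eq_zero]
    · simp only [pm, e2, CharTwo.add_self_eq_zero, zero_add, nm, map_mul]
      ring
  let δ : F →+ F := AddMonoidHom.mk' (fun x => (τ (x, 0)).2) fun x x' => by
    have e1 : ((x + x', φ x * x') : F × F) = pm φ (x, 0) (x', 0) := by simp [pm]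
    have e2 : ((x + x', φ x * x') : F × F) = pm φ (x + x', 0) (0, φ x * x') := by simp [pm]
    have e3 := congrArg Prod.snd ((congrArg τ e2).symm.trans (congrArg τ e1))
    rw [hτmul, hτmul, hτ0] at e3
    simp only [pm, hτ1, nm, map_mul, mul_zero, add_zero] at e3
    linear_combination e3
  have hτ : ∀ x y, τ (x, y) = (l * x, δ x + nm φ l * y) := by
    intro x y
    have e1 : ((x, y) : F × F) = pm φ (x, 0) (0, y) := by simp [pm]
    rw [e1, hτmul, hτ0]
    ext
    · simp [pm, hτ1]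
    · simp only [pm, hτ1, mul_zero, add_zero]
      rfl
  -- removing the additive twist
  haveI : Finite (F →+ F) := Finite.of_injective _ (DFunLike.coe_injective (F := F →+ F))
  let L : (F →+ F) → (F →+ F) := fun w => AddMonoidHom.mk' (fun x => w (l * x) + nm φ l * w x)
    fun x x' => by rw [mul_add, map_add, map_add]; ring
  have hLinj : Function.Injective L := by
    intro w w' e
    have e' : ∀ x, (w - w') (l * x) = nm φ l * (w - w') x := by
      intro x
      have := DFunLike.congr_fun e x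
      change w (l * x) + nm φ l * w x = w' (l * x) + nm φ l * w' x at this
      simp only [AddMonoidHom.sub_apply]
      linear_combination (norm := (ring_nf; simp [even_num])) this
    have e2 : ∀ x, (w - w') x = (w - w') 1 * nm φ x := by
      intro x
      by_cases hx : x = 0
      · subst hx; simp [nm_zero]
      obtain ⟨j, rfl⟩ := hl x hx
      induction j with
      | zero => simp [nm_one]
      | succ j ih =>
        rw [pow_succ', e', ih (pow_ne_zero _ hl0), nm_mul]
        ring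
    by_contra hne'
    apply hne
    have h1 : (w - w') 1 ≠ 0 := fun h0 => hne' (sub_eq_zero.1 (AddMonoidHom.ext fun x => by
      rw [e2, h0, zero_mul]; rfl))
    refine RingEquiv.ext fun x => ?_
    have h2 := map_add (w - w') x 1
    rw [e2 (x + 1), e2 x] at h2
    have h3 : (w - w') 1 * (x + φ x) = 0 := by
      simp only [nm, map_add, map_one] at h2
      linear_combination h2
    exact (CharTwo.add_eq_zero.1 ((mul_eq_zero.1 h3).resolve_left h1)).symm
  obtain ⟨w, hw⟩ := (Finite.injective_iff_surjective.1 hLinj) δ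
  have hw' : ∀ x, w (l * x) + nm φ l * w x = δ x := fun x => DFunLike.congr_fun hw x
  let c : F × F → G := fun p => (e₀ (p.1, p.2 + w p.1) : U)
  have hcmul' : ∀ p r, c p * c r = c (pm φ p r) := fun p r => by
    simp only [c, ← Subgroup.coe_mul, he₀mul]
    congr 2
    simp only [pm, map_add, Prod.mk.injEq, true_and]
    ring
  have hcbij : ∀ u : U, ∃ p, c p = (u : G) := fun u => by
    obtain ⟨⟨x, y⟩, rfl⟩ := he₀bij.2 u
    exact ⟨(x, y + w x), by simp [c, add_assoc, CharTwo.add_self_eq_zero]⟩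
  have hcinj : Function.Injective c := by
    intro p r e
    have e1 := he₀bij.1 (Subtype.ext e)
    simp only [Prod.mk.injEq] at e1
    obtain ⟨e1, e2⟩ := e1
    rw [e1] at e2
    exact Prod.ext e1 (add_right_cancel e2)
  have hconj1 : ∀ p, g * c p * g⁻¹ = c (sc φ l p) := by
    intro p
    have e1 := hpow 1 (e₀ (p.1, p.2 + w p.1))
    rw [pow_one, pow_one] at e1
    show g * ((e₀ (p.1, p.2 + w p.1) : U) : G) * g⁻¹ = _
    rw [← e1]
    simp only [c]
    congr 1
    rw [← hcoord (σ (e₀ (p.1, p.2 + w p.1)))]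
    congr 1
    show τ (p.1, p.2 + w p.1) = _
    rw [hτ, ← hw']
    simp only [sc, Prod.mk.injEq, true_and, nm]
    linear_combination (norm := (ring_nf; simp [even_num])) (0 : F) = 0
  have hconj : ∀ (j : ℕ) p, g ^ j * c p * (g ^ j)⁻¹ = c (sc φ (l ^ j) p) := by
    intro j
    induction j with
    | zero => intro p; simp [sc_one]
    | succ j ih =>
      intro p
      calc g ^ (j + 1) * c p * (g ^ (j + 1))⁻¹ = g * (g ^ j * c p * (g ^ j)⁻¹) * g⁻¹ := by
            rw [pow_succ']; group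
        _ = _ := by rw [ih, hconj1, sc_sc, ← pow_succ']
  have hwd : ∀ j k, l ^ j = l ^ k → g ^ j = g ^ k := by
    intro j k e
    have hd1 : (g ^ k)⁻¹ * g ^ j ∈ D a t :=
      (D a t).mul_mem ((D a t).inv_mem ((D a t).pow_mem hg k)) ((D a t).pow_mem hg j)
    by_contra hjk
    have hne1 : (g ^ k)⁻¹ * g ^ j ≠ 1 := fun e1 => hjk (inv_mul_eq_one.1 e1).symm
    have hx : c (1, 0) ∈ U := Subtype.coe_prop _
    have h0 := h.D_fpf hd1 hne1 hx (by
      refine mul_inv_eq_iff_eq_mul.1 ?_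
      calc (g ^ k)⁻¹ * g ^ j * c (1, 0) * ((g ^ k)⁻¹ * g ^ j)⁻¹
          = (g ^ k)⁻¹ * (g ^ j * c (1, 0) * (g ^ j)⁻¹) * g ^ k := by group
        _ = (g ^ k)⁻¹ * (g ^ k * c (1, 0) * (g ^ k)⁻¹) * g ^ k := by rw [hconj, hconj, e]
        _ = c (1, 0) := by group)
    have hc0 : c 0 = 1 := by
      have := hcmul' 0 0
      rwa [pm_zero_left, mul_eq_left] at this
    exact one_ne_zero (α := F) (congrArg Prod.fst (hcinj (h0.trans hc0.symm)))
  let d : F → G := fun k => if hk : k ≠ 0 then g ^ (hl k hk).choose else 1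
  have hdpow : ∀ j, d (l ^ j) = g ^ j := fun j => by
    simp only [d, dif_pos (pow_ne_zero j hl0)]
    exact hwd _ _ (hl _ (pow_ne_zero j hl0)).choose_spec
  refine ⟨c, d, hF, hne, hodd, ?_⟩
  exact
    { tsq := h.tsq
      tmov := h.tmov
      cmul := hcmul'
      cfix := fun p => h.le (Subtype.coe_prop _)
      dmul := fun j k hj hk => by
        obtain ⟨j, rfl⟩ := hl j hj
        obtain ⟨k, rfl⟩ := hl k hk
        rw [← pow_add, hdpow, hdpow, hdpow, pow_add]
      dfix := fun k hk => by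
        obtain ⟨j, rfl⟩ := hl k hk
        rw [hdpow]
        exact ((D a t).pow_mem hg j).1
      dfix' := fun k hk => by
        obtain ⟨j, rfl⟩ := hl k hk
        rw [hdpow]
        exact ((D a t).pow_mem hg j).2
      conj := fun k hk p => by
        obtain ⟨j, rfl⟩ := hl k hk
        rw [hdpow, ← hconj]
        group
      tinv := fun k hk => by
        obtain ⟨j, rfl⟩ := hl k hk
        obtain ⟨j', hj'⟩ := hl (l ^ j)⁻¹ (inv_ne_zero hk)
        rw [hdpow, h.D_conj_t ((D a t).pow_mem hg j), ← hj', hdpow]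
        refine (eq_inv_of_mul_eq_one_left ?_).symm
        rw [← pow_add, ← pow_zero g]
        refine hwd _ _ ?_
        rw [pow_add, hj', pow_zero, inv_mul_cancel₀ hk]
      inj := fun p r e => by
        obtain ⟨u, -, hu⟩ := h.reg (t • a) (c p • t • a) h.tmov (fun e' => h.tmov
          (smul_left_cancel (c p) (e'.trans (show c p • a = a from h.le (Subtype.coe_prop _)).symm)))
        exact hcinj (congrArg Subtype.val ((hu ⟨c p, Subtype.coe_prop _⟩ rfl).trans
          (hu ⟨c r, Subtype.coe_prop _⟩ e.symm).symm))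
      surj := fun x hx => by
        obtain ⟨u, hu, -⟩ := h.reg (t • a) x h.tmov hx
        obtain ⟨p, hp⟩ := hcbij u
        exact ⟨p, by rw [hp]; exact hu⟩
      stab := fun x h1 h2 => by
        obtain ⟨j, hj⟩ := hgen x ⟨h1, h2⟩
        exact ⟨l ^ j, pow_ne_zero j hl0, by rw [hdpow, hj]⟩ }

theorem not_three_dvd {n : ℕ} (hn : Odd n) :
    ¬ 3 ∣ (2 ^ n) ^ 2 * (2 ^ n - 1) * ((2 ^ n) ^ 2 + 1) := by
  obtain ⟨k, rfl⟩ := hn
  have h1 : 2 ^ (2 * k + 1) % 3 = 2 := by
    rw [pow_succ, pow_mul, Nat.mul_mod, Nat.pow_mod]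
    norm_num
  have hm : ((2 ^ (2 * k + 1)) ^ 2) % 3 = 1 := by rw [Nat.pow_mod, h1]
  have hp : 1 ≤ 2 ^ (2 * k + 1) := Nat.one_le_two_pow
  generalize 2 ^ (2 * k + 1) = N at h1 hm hp ⊢
  have h2 : (N - 1) % 3 = 1 := by omega
  have h3 : (N ^ 2 + 1) % 3 = 2 := by omega
  rw [Nat.dvd_iff_mod_eq_zero, Nat.mul_mod, Nat.mul_mod (N ^ 2), hm, h2, h3]
  norm_num

/-- The group is a Suzuki group. -/
theorem isoSuzuki (h : SuzukiZ.Setup G a t U) : Cfsg.Lie.IsoSuzuki G := by
  classical
  letI := Fintype.ofFinite G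
  haveI := h.faithful
  have hQ := h.card_U_sq
  obtain ⟨n, hn2, hn⟩ := h.exists_q_eq
  have hodd := h.odd_exponent hn
  obtain ⟨F, iF, iT, iC, φ, c, d, hF, hne, hφ, hfr⟩ := exists_frame h hQ
  obtain ⟨m, hm⟩ := hodd
  haveI hS : Suzuki.SuzukiField F m := ⟨by omega, by rw [hF, hn, hm]⟩
  have h3 : ∀ g : G, g * g * g = 1 → g = 1 := by
    intro g hg
    by_contra hg1
    haveI : Fact (Nat.Prime 3) := ⟨Nat.prime_three⟩
    have ho : orderOf g = 3 := orderOf_eq_prime (by rw [pow_succ, pow_two]; exact hg) hg1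
    refine not_three_dvd (n := n) ⟨m, hm⟩ ?_
    have := h.card_G
    rw [hQ, hn] at this
    rw [← this, ← ho]
    exact orderOf_dvd_natCard g
  have hsq : ∀ x : F, ∃ y, y * y = x := fun x => by
    obtain ⟨y, hy⟩ := Suzuki.sq_surjective (F := F) x
    exact ⟨y, by rw [← sq]; exact hy⟩
  obtain ⟨t', hfr', h1⟩ := hfr.normalise h3 hsq
  have hbij : Function.Bijective (nm φ) := nm_bijective fun u v e => nm_injective hφ e
  have hz : fmap a t' c (0, 1) = (1, (fmap a t' c (0, 1)).2) := Prod.ext h1 rfl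
  have hcard : Nat.card G = Nat.card (Cfsg.Sz F m) := by
    rw [h.card_G, hQ, hn, hm, Suzuki.card_sz]
    ring
  have hne' : ∃ x, φ x ≠ x := by
    by_contra hcon
    push Not at hcon
    exact hne (RingEquiv.ext hcon)
  obtain ⟨e⟩ : Nonempty (G ≃* Cfsg.Sz F m) := by
    rcases (hfr'.good hz).beta hbij hne' with hb | hb
    · rw [hb] at hz
      exact hfr'.iso hφ hbij hz hcard
    · rw [hb] at hz
      have hφ' : Odd (orderOf φ.symm) := by
        rw [show (φ.symm : F ≃+* F) = φ⁻¹ from rfl, orderOf_inv]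
        exact hφ
      exact hfr'.flip.iso hφ' (nm_bijective fun u v e => nm_injective hφ' e) (hfr'.flip_z hz) hcard
  exact ⟨F, iF, iT, m, by omega, by rw [hF, hn, hm], ⟨e.trans (Suzuki.szEquivLie F m)⟩⟩

/-- A finite simple Zassenhaus group with a non-abelian regular normal 2-subgroup in a point
stabilizer is a Suzuki group. -/
theorem isoSuzuki_of_zassenhaus {G Ω : Type*} [Group G] [Finite G] [MulAction G Ω] [Finite Ω]
    (hZ : Cfsg.IsZassenhausGroup G Ω) [IsSimpleGroup G] {a b : Ω} (hab : a ≠ b)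
    (U : Subgroup G) (hUle : U ≤ MulAction.stabilizer G a)
    (hUn : ∀ h ∈ MulAction.stabilizer G a, ∀ u ∈ U, h * u * h⁻¹ ∈ U)
    (hreg : ∀ c d : Ω, c ≠ a → d ≠ a → ∃! u : U, (u : G) • c = d)
    (hU2 : IsPGroup 2 U) (hUna : ∃ u ∈ U, ∃ v ∈ U, u * v ≠ v * u) :
    Cfsg.Lie.IsoSuzuki G := by
  classical
  have hz := PermB.zData_of_isZassenhausGroup hZ
  obtain ⟨s, hs, hsa, -⟩ := PermB.ZData.exists_involution_swap hz hab
  subst hsa
  refine isoSuzuki (a := a) (t := s) (U := U)
    { z := hz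
      tsq := by rw [← sq, ← hs, pow_orderOf_eq_one]
      tne := fun e => by rw [e, orderOf_one] at hs; omega
      tmov := fun e => hab e.symm
      le := hUle
      normal := hUn
      reg := hreg
      pgroup := hU2
      noncomm := hUna
      fix2 := hZ.2.2.2.1
      perfect := ?_ }
  rcases (inferInstance : (commutator G).Normal).eq_bot_or_eq_top with e | e
  · exfalso
    obtain ⟨u, _, v, _, huv⟩ := hUna
    refine huv (commutatorElement_eq_one_iff_mul_comm.1 ((Subgroup.eq_bot_iff_forall _).1 e _ ?_))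
    exact Subgroup.commutator_mem_commutator (Subgroup.mem_top u) (Subgroup.mem_top v)
  · exact e

end Cfsg.Agent.FGS75.ZTU
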