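import Mathlib

/-!
# Uniqueness of the structure equation of a Suzuki group

Coordinates `(x, y)` on a 2-group of type A over a field `F`, with the torus acting by
`(x, y) ↦ (k x, k φ(k) y)`, and a map `f` on the non-zero pairs coming from an involution which
inverts the torus. The structure equation for the involution `(0, 1)` forces `f` to be the map of
a Suzuki group.
-/

set_option autoImplicit false
set_option linter.unusedSectionVars false
set_option linter.unusedVariables false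

namespace Cfsg.Agent.FGS75.ZTU

variable {F : Type*} [Field F] [CharP F 2] {φ : F ≃+* F}

/-- The product of the group of type A. -/
def pm (φ : F ≃+* F) (p q : F × F) : F × F := (p.1 + q.1, p.2 + q.2 + φ p.1 * q.1)

/-- The action of the torus. -/
def sc (φ : F ≃+* F) (k : F) (p : F × F) : F × F := (k * p.1, k * φ k * p.2)

/-- The inverse in the group of type A. -/
def pinv (φ : F ≃+* F) (p : F × F) : F × F := (p.1, p.2 + φ p.1 * p.1)

/-- `x φ(x)`. -/
def nm (φ : F ≃+* F) (x : F) : F := x * φ x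

theorem even_num {n : ℕ} [n.AtLeastTwo] (h : n % 2 = 0) : (OfNat.ofNat n : F) = 0 := by
  rw [← Nat.cast_ofNat, CharP.cast_eq_zero_iff F 2]
  exact Nat.dvd_of_mod_eq_zero h

theorem nm_mul (φ : F ≃+* F) (x y : F) : nm φ (x * y) = nm φ x * nm φ y := by
  simp only [nm, map_mul]; ring

theorem nm_one (φ : F ≃+* F) : nm φ 1 = 1 := by simp [nm]

theorem nm_zero (φ : F ≃+* F) : nm φ 0 = 0 := by simp [nm]

theorem nm_eq_zero {x : F} (h : nm φ x = 0) : x = 0 := by
  rcases mul_eq_zero.1 h with h | h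
  · exact h
  · exact (map_eq_zero_iff φ φ.injective).1 h

theorem nm_div (φ : F ≃+* F) (x y : F) : nm φ (x / y) = nm φ x / nm φ y := by
  simp only [nm, map_div₀]; rw [div_mul_div_comm]

theorem sc_sc (φ : F ≃+* F) (j k : F) (p : F × F) : sc φ j (sc φ k p) = sc φ (j * k) p := by
  simp only [sc, map_mul, Prod.mk.injEq]
  constructor <;> ring

theorem sc_one (φ : F ≃+* F) (p : F × F) : sc φ 1 p = p := by simp [sc]

theorem sc_inv_sc (φ : F ≃+* F) {k : F} (hk : k ≠ 0) (p : F × F) : sc φ k⁻¹ (sc φ k p) = p := by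
  rw [sc_sc, inv_mul_cancel₀ hk, sc_one]

theorem sc_sc_inv (φ : F ≃+* F) {k : F} (hk : k ≠ 0) (p : F × F) : sc φ k (sc φ k⁻¹ p) = p := by
  rw [sc_sc, mul_inv_cancel₀ hk, sc_one]

theorem sc_ne_zero (φ : F ≃+* F) {k : F} (hk : k ≠ 0) {p : F × F} (hp : p ≠ 0) :
    sc φ k p ≠ 0 := by
  intro h
  apply hp
  rw [← sc_inv_sc φ hk p, h]
  simp [sc]

theorem sc_pm (φ : F ≃+* F) (k : F) (p q : F × F) :
    sc φ k (pm φ p q) = pm φ (sc φ k p) (sc φ k q) := by
  simp only [sc, pm, map_mul, Prod.mk.injEq]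
  constructor <;> ring

theorem pm_pinv (φ : F ≃+* F) (p : F × F) : pm φ p (pinv φ p) = 0 := by
  simp only [pm, pinv]
  ext
  · exact CharTwo.add_self_eq_zero _
  · show p.2 + (p.2 + φ p.1 * p.1) + φ p.1 * p.1 = 0
    grind

theorem pinv_pm (φ : F ≃+* F) (p : F × F) : pm φ (pinv φ p) p = 0 := by
  simp only [pm, pinv]
  ext
  · exact CharTwo.add_self_eq_zero _
  · show p.2 + φ p.1 * p.1 + p.2 + φ p.1 * p.1 = 0
    grind

theorem pm_zero_left (φ : F ≃+* F) (p : F × F) : pm φ 0 p = p := by simp [pm]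

theorem pm_zero_right (φ : F ≃+* F) (p : F × F) : pm φ p 0 = p := by simp [pm]

/-- The map of an involution inverting the torus, with its structure equation at `(0, 1)`. -/
structure Good (φ : F ≃+* F) (f : F × F → F × F) (β : F) : Prop where
  ne : ∀ p, p ≠ 0 → f p ≠ 0
  inv : ∀ p, p ≠ 0 → f (f p) = p
  equiv : ∀ k, k ≠ 0 → ∀ p, p ≠ 0 → f (sc φ k p) = sc φ k⁻¹ (f p)
  fz : f (0, 1) = (1, β)
  eqn : ∃ e : F, e ≠ 0 ∧ sc φ e (f (1, β + 1)) = (1, β + 1) ∧
    ∀ v, v ≠ 0 → pm φ (0, 1) (f v) ≠ 0 → pm φ (1, β + 1) v ≠ 0 →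
      f (pm φ (0, 1) (f v)) = pm φ (1, β) (sc φ e (f (pm φ (1, β + 1) v)))

variable {f : F × F → F × F} {β : F}

theorem mk_fst_ne_zero {x y : F} (hx : x ≠ 0) : ((x, y) : F × F) ≠ 0 := fun h =>
  hx (congrArg Prod.fst h)

theorem Good.fw (h : Good φ f β) : f (1, β) = (0, 1) := by
  rw [← h.fz]
  exact h.inv _ fun e => one_ne_zero (α := F) (congrArg Prod.snd e)

theorem Good.f_center (h : Good φ f β) {k : F} (hk : k ≠ 0) :
    f (0, nm φ k) = (k⁻¹, β / nm φ k) := by
  have e : ((0, nm φ k) : F × F) = sc φ k (0, 1) := by simp [sc, nm]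
  rw [e, h.equiv k hk _ (fun e => one_ne_zero (α := F) (congrArg Prod.snd e)), h.fz]
  simp only [sc, nm, map_inv₀, mul_one, Prod.mk.injEq, true_and]
  rw [div_eq_mul_inv, mul_inv]; ring

/-- The torus element of the structure equation is trivial, and the equation for central `v`. -/
theorem Good.e_one (h : Good φ f β) :
    f (1, β + 1) = (1, β + 1) ∧
    (∀ v, v ≠ 0 → pm φ (0, 1) (f v) ≠ 0 → pm φ (1, β + 1) v ≠ 0 →
      f (pm φ (0, 1) (f v)) = pm φ (1, β) (f (pm φ (1, β + 1) v))) := by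
  obtain ⟨e, he, hE0, hE⟩ := h.eqn
  have hv : ((0, 1) : F × F) ≠ 0 := fun e => one_ne_zero (α := F) (congrArg Prod.snd e)
  have h1 := hE (0, 1) hv (by rw [h.fz]; exact mk_fst_ne_zero (by simp)) (mk_fst_ne_zero (by simp))
  have e1 : pm φ (0, 1) (f (0, 1)) = (1, β + 1) := by
    rw [h.fz]; simp [pm, add_comm]
  have e2 : pm φ (1, β + 1) (0, 1) = (1, β) := by
    simp [pm, add_assoc, CharTwo.add_self_eq_zero]
  rw [e1, e2, h.fw] at h1
  have h2 : f (1, β + 1) = sc φ e⁻¹ (1, β + 1) := by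
    conv_rhs => rw [← hE0, sc_inv_sc φ he]
  rw [h2] at h1
  have h3 : e⁻¹ = 1 := by
    have := congrArg Prod.fst h1
    simpa [sc, pm] using this
  have he1 : e = 1 := inv_eq_one.1 h3
  refine ⟨by rw [h2, h3, sc_one], fun v a b c => ?_⟩
  rw [hE v a b c, he1, sc_one]

/-- The equation for the orbit representatives `(1, β + c)`. -/
theorem Good.eqII (h : Good φ f β) {k : F} (hk : k ≠ 0) :
    sc φ k (f (1, β + nm φ k)) = pm φ (1, β) (f (1, β + (1 + nm φ k))) := by
  have hc : nm φ k ≠ 0 := fun e => hk (nm_eq_zero e)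
  have hφ : φ k ≠ 0 := by simpa using hk
  have hv : ((0, nm φ k) : F × F) ≠ 0 := fun e => hc (congrArg Prod.snd e)
  have e1 : pm φ (0, 1) (f (0, nm φ k)) = sc φ k⁻¹ (1, β + nm φ k) := by
    rw [h.f_center hk]
    simp only [pm, sc, nm, map_zero, zero_mul, add_zero, zero_add, mul_one, map_inv₀,
      Prod.mk.injEq, true_and]
    field_simp
    ring
  have e2 : pm φ (1, β + 1) (0, nm φ k) = (1, β + (1 + nm φ k)) := by
    simp [pm, add_assoc]
  have h1 := h.e_one.2 _ hv (by rw [e1]; exact sc_ne_zero φ (inv_ne_zero hk) (mk_fst_ne_zero one_ne_zero))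
    (by rw [e2]; exact mk_fst_ne_zero one_ne_zero)
  rw [e1, e2, h.equiv k⁻¹ (inv_ne_zero hk) _ (mk_fst_ne_zero one_ne_zero), inv_inv] at h1
  exact h1

/-- The symmetric bilinear-like form of the argument. -/
def frm (φ : F ≃+* F) (β x y : F) : F := nm φ y + x * φ y + β * (y * φ x + x * φ y)

/-- The value of `f` at a point given by the structure equation. -/
theorem Good.eqI (h : Good φ f β) {k l : F} (hk : k ≠ 0) (hk1 : k ≠ 1) (hl : l ≠ 0) (hl1 : l ≠ 1)
    (hkl : nm φ l = 1 + nm φ k) {C : F} (hC : C * nm φ (1 + k) = frm φ β 1 k) :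
    C ≠ 0 ∧ (f (1, β + C)).1 = (1 + k⁻¹) * (1 + l⁻¹) := by
  have hc : nm φ k ≠ 0 := fun e => hk (nm_eq_zero e)
  have hc1 : 1 + nm φ k ≠ 0 := hkl ▸ fun e => hl (nm_eq_zero e)
  have hj : 1 + k⁻¹ ≠ 0 := by
    intro e
    apply hk1
    have : k⁻¹ = 1 := by rw [← CharTwo.add_eq_zero.1 e]
    exact inv_eq_one.1 this
  have hφk : φ k ≠ 0 := by simpa using hk
  have hφ1k : φ (1 + k) ≠ 0 := by
    intro e
    exact hk1 (CharTwo.add_eq_zero.1 ((map_eq_zero_iff φ φ.injective).1 e)).symm
  have h1k : 1 + k ≠ 0 := fun e => hk1 (CharTwo.add_eq_zero.1 e).symm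
  have hv : ((k⁻¹, β / nm φ k) : F × F) ≠ 0 := mk_fst_ne_zero (inv_ne_zero hk)
  have hfv : f (k⁻¹, β / nm φ k) = (0, nm φ k) := by
    rw [← h.f_center hk]
    exact h.inv _ fun e => hc (congrArg Prod.snd e)
  have e1 : pm φ (0, 1) (f (k⁻¹, β / nm φ k)) = (0, nm φ l) := by
    rw [hfv, hkl]; simp [pm]
  have e2 : pm φ (1, β + 1) (k⁻¹, β / nm φ k) = sc φ (1 + k⁻¹) (1, β + C) := by
    have e3 : β + C = (β + 1 + β / nm φ k + k⁻¹) / nm φ (1 + k⁻¹) := by
      rw [eq_div_iff (fun e => hj (nm_eq_zero e))]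
      have hC' : C * ((1 + k) * (1 + φ k)) = k * φ k + φ k + β * (k + φ k) := by
        have := hC
        simp only [frm, nm, map_add, map_one, one_mul, mul_one] at this
        exact this
      simp only [nm, map_add, map_one, map_inv₀]
      field_simp
      grind
    simp only [pm, sc, map_one, mul_one, one_mul, Prod.mk.injEq, true_and]
    rw [e3]
    have hn : nm φ (1 + k⁻¹) ≠ 0 := fun e => hj (nm_eq_zero e)
    simp only [nm] at hn ⊢
    exact (mul_div_cancel₀ _ hn).symm
  have h1 := h.e_one.2 _ hv (by rw [e1]; exact fun e => hl (nm_eq_zero (congrArg Prod.snd e)))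
    (by rw [e2]; exact sc_ne_zero φ hj (mk_fst_ne_zero one_ne_zero))
  rw [e1, e2, h.f_center hl, h.equiv _ hj _ (mk_fst_ne_zero one_ne_zero)] at h1
  have h2 : l⁻¹ = 1 + (1 + k⁻¹)⁻¹ * (f (1, β + C)).1 := congrArg Prod.fst h1
  refine ⟨fun e => ?_, ?_⟩
  · rw [e, add_zero, h.fw, mul_zero, add_zero] at h2
    exact hl1 (inv_eq_one.1 h2)
  · have h3 : (1 + k⁻¹)⁻¹ * (f (1, β + C)).1 = 1 + l⁻¹ := by
      rw [h2, ← add_assoc, CharTwo.add_self_eq_zero, zero_add]
    rw [← h3, ← mul_assoc, mul_inv_cancel₀ hj, one_mul]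

variable [Finite F]

theorem nm_bijective (hφ : ∀ u v : F, nm φ u = nm φ v → u = v) : Function.Bijective (nm φ) :=
  Finite.injective_iff_bijective.1 fun u v e => hφ u v e

/-- The homogeneous relation. -/
theorem Good.rel (h : Good φ f β) (hφ : Function.Bijective (nm φ)) {x y z : F} (hx : x ≠ 0)
    (hy : y ≠ 0) (hz : z ≠ 0) (hs : nm φ x + nm φ y + nm φ z = 0) :
    frm φ β x y * nm φ (x + z) * nm φ x = nm φ y * nm φ y * nm φ (x + y + z) := by
  obtain ⟨k, hk'⟩ : ∃ k, k = y / x := ⟨_, rfl⟩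
  obtain ⟨l, hl'⟩ : ∃ l, l = z / x := ⟨_, rfl⟩
  have hNx : nm φ x ≠ 0 := fun e => hx (nm_eq_zero e)
  have hk : k ≠ 0 := hk' ▸ div_ne_zero hy hx
  have hl : l ≠ 0 := hl' ▸ div_ne_zero hz hx
  have hkl : nm φ l = 1 + nm φ k := by
    rw [hk', hl', nm_div, nm_div]
    field_simp
    linear_combination (norm := (ring_nf; simp [even_num])) hs
  have hk1 : k ≠ 1 := by
    intro e
    rw [e, nm_one, CharTwo.add_self_eq_zero] at hkl
    exact hl (nm_eq_zero hkl)
  have hl1 : l ≠ 1 := by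
    intro e
    rw [e, nm_one] at hkl
    exact hk (nm_eq_zero (φ := φ) (by linear_combination -hkl))
  have h1k : 1 + k ≠ 0 := fun e => hk1 (CharTwo.add_eq_zero.1 e).symm
  have hn1k : nm φ (1 + k) ≠ 0 := fun e => h1k (nm_eq_zero e)
  set C := frm φ β 1 k / nm φ (1 + k) with hC'
  have hC : C * nm φ (1 + k) = frm φ β 1 k := div_mul_cancel₀ _ hn1k
  obtain ⟨hC0, hP⟩ := h.eqI hk hk1 hl hl1 hkl hC
  have hkl' : nm φ (l / k) = 1 + nm φ k⁻¹ := by
    have hNk : nm φ k ≠ 0 := fun e => hk (nm_eq_zero e)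
    have e1 : nm φ k⁻¹ = 1 / nm φ k := by
      rw [show k⁻¹ = 1 / k from (one_div k).symm, nm_div, nm_one]
    rw [e1, nm_div, hkl]
    field_simp
    ring
  have hC1 : (1 + C) * nm φ (1 + k⁻¹) = frm φ β 1 k⁻¹ := by
    have hφk : φ k ≠ 0 := by simpa using hk
    have hC2 : C * ((1 + k) * (1 + φ k)) = k * φ k + φ k + β * (k + φ k) := by
      have := hC
      simp only [frm, nm, map_add, map_one, one_mul, mul_one] at this
      exact this
    simp only [frm, nm, map_add, map_one, map_inv₀, one_mul, mul_one]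
    field_simp
    grind
  have hlk1 : l / k ≠ 1 := by
    intro e
    rw [e, nm_one] at hkl'
    exact hk (inv_eq_zero.1 (nm_eq_zero (φ := φ) (by linear_combination -hkl')))
  obtain ⟨-, hP'⟩ := h.eqI (inv_ne_zero hk) (fun e => hk1 (inv_eq_one.1 e)) (div_ne_zero hl hk)
    hlk1 hkl' hC1
  obtain ⟨K, hK⟩ := hφ.2 C
  have hK0 : K ≠ 0 := fun e => hC0 (by rw [← hK, e, nm_zero])
  have h2 := congrArg Prod.fst (h.eqII hK0)
  rw [hK] at h2
  have h3 : K * ((1 + k⁻¹) * (1 + l⁻¹)) = 1 + (1 + k⁻¹⁻¹) * (1 + (l / k)⁻¹) := by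
    rw [← hP, ← hP']
    exact h2
  have h4 : K * ((1 + k) * (1 + l)) = k * k * (1 + k + l) := by
    rw [inv_inv, inv_div] at h3
    field_simp at h3
    linear_combination (norm := (ring_nf; simp [even_num])) h3
  have h5 := congrArg (nm φ) h4
  simp only [nm_mul, hK] at h5
  have h6 : frm φ β 1 k * nm φ (1 + l) = nm φ k * nm φ k * nm φ (1 + k + l) := by
    rw [← h5, ← hC]; ring
  have ey : y = x * k := by rw [hk']; field_simp
  have ez : z = x * l := by rw [hl']; field_simp
  have e7 : frm φ β x y = nm φ x * frm φ β 1 k := by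
    rw [ey]; simp only [frm, nm, map_mul, map_one]; ring
  rw [e7, show x + z = x * (1 + l) by rw [ez]; ring, show x + y + z = x * (1 + k + l) by
    rw [ey, ez]; ring, nm_mul, nm_mul, ey, nm_mul]
  linear_combination (nm φ x * nm φ x * nm φ x) * h6

/-- The two linear equations for `l` and `φ(l)`. -/
theorem Good.lin (h : Good φ f β) (hφ : Function.Bijective (nm φ)) {k l : F} (hk : k ≠ 0)
    (hl : l ≠ 0) (hkl : nm φ l = 1 + nm φ k) :
    nm φ k * (1 + k + β * (k + φ k)) = (1 + nm φ k) * (1 + l + β * (l + φ l)) ∧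
    nm φ k + φ k + β * (k + φ k) =
      (1 + nm φ k) * (nm φ k + l * φ k + β * (k * φ l + l * φ k)) := by
  have hs : nm φ 1 + nm φ k + nm φ l = 0 := by rw [nm_one, hkl]; grind
  have hA : nm φ (k + l) ≠ 0 := by
    intro e
    have : k = l := CharTwo.add_eq_zero.1 (nm_eq_zero e)
    subst this
    have := hkl
    exact one_ne_zero (α := F) (by grind)
  have hB : nm φ (1 + l) ≠ 0 := by
    intro e
    have : 1 = l := CharTwo.add_eq_zero.1 (nm_eq_zero e)
    subst this
    rw [nm_one] at hkl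
    exact hk (nm_eq_zero (φ := φ) (by grind))
  constructor
  · have r1 := h.rel hφ hk one_ne_zero hl (by rw [← hs]; ring)
    have r2 := h.rel hφ hl one_ne_zero hk (by rw [← hs]; ring)
    rw [show k + 1 + l = l + 1 + k by ring, ← r2] at r1
    rw [show l + k = k + l by ring] at r1
    have h3 : frm φ β k 1 * nm φ k = frm φ β l 1 * nm φ l :=
      mul_right_cancel₀ hA (by linear_combination r1)
    rw [hkl] at h3
    simp only [frm, nm_one, map_one, mul_one, one_mul] at h3
    linear_combination h3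
  · have r1 := h.rel hφ one_ne_zero hk hl hs
    have r2 := h.rel hφ hl hk one_ne_zero (by rw [← hs]; ring)
    rw [show 1 + k + l = l + k + 1 by ring, ← r2] at r1
    rw [show l + (1 : F) = 1 + l by ring] at r1
    have h3 : frm φ β 1 k * nm φ 1 = frm φ β l k * nm φ l :=
      mul_right_cancel₀ hB (by linear_combination r1)
    rw [hkl, nm_one] at h3
    simp only [frm, map_one, mul_one, one_mul] at h3
    linear_combination h3

/-- The parameter `β` is `0` or `1`. -/
theorem Good.beta (h : Good φ f β) (hφ : Function.Bijective (nm φ)) (hne : ∃ x, φ x ≠ x) :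
    β = 0 ∨ β = 1 := by
  by_contra hb
  push Not at hb
  obtain ⟨k, hka⟩ := hne
  have hk : k ≠ 0 := by rintro rfl; simp at hka
  have hk1 : k ≠ 1 := by rintro rfl; simp at hka
  obtain ⟨l, hkl⟩ := hφ.2 (1 + nm φ k)
  have hb1 : (1 : F) + β ≠ 0 := fun e => hb.2 (CharTwo.add_eq_zero.1 e).symm
  have hka' : k + φ k ≠ 0 := fun e => hka (CharTwo.add_eq_zero.1 e).symm
  have hc : (1 : F) + nm φ k ≠ 0 := by
    intro e
    exact hk1 (hφ.1 (by rw [nm_one]; exact (CharTwo.add_eq_zero.1 e).symm))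
  have hl : l ≠ 0 := fun e => hc (by rw [← hkl, e, nm_zero])
  obtain ⟨h1, h2⟩ := h.lin hφ hk hl hkl
  obtain ⟨a, ha⟩ : ∃ a, φ k = a := ⟨_, rfl⟩
  obtain ⟨m, hm'⟩ : ∃ m, φ l = m := ⟨_, rfl⟩
  rw [ha] at h1 h2 hka hka'
  rw [hm'] at h1 h2
  have hm : l * m = 1 + k * a := by rw [← ha, ← hm']; exact hkl
  have e1 : (1 + nm φ k) * l = 1 + nm φ k * k := by
    refine mul_left_cancel₀ (mul_ne_zero hb1 hka') ?_
    simp only [nm, ha] at h1 h2 ⊢
    linear_combination (norm := (ring_nf; simp [even_num])) k * h1 + h2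
  have e2 : (1 + nm φ k) * m = 1 + nm φ k * a := by
    refine mul_left_cancel₀ (mul_ne_zero hb.1 hka') ?_
    simp only [nm, ha] at h1 h2 ⊢
    linear_combination (norm := (ring_nf; simp [even_num])) a * h1 + h2
  have e3 : (k * a) * ((1 + k) * (1 + a)) = 0 := by
    simp only [nm, ha] at e1 e2
    have : ((1 + k * a) * l) * ((1 + k * a) * m) = (1 + k * a) ^ 3 := by
      linear_combination (1 + k * a) ^ 2 * hm
    rw [e1, e2] at this
    linear_combination (norm := (ring_nf; simp [even_num])) this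
  rcases mul_eq_zero.1 e3 with h3 | h3 <;> rcases mul_eq_zero.1 h3 with h4 | h4
  · exact hk h4
  · exact hk ((map_eq_zero_iff φ φ.injective).1 (ha.trans h4))
  · exact hk1 (CharTwo.add_eq_zero.1 h4).symm
  · exact hk1 ((map_eq_one_iff φ φ.injective).1 (ha.trans (CharTwo.add_eq_zero.1 h4).symm))

/-- For `β = 0` the square of the automorphism is the Frobenius map. -/
theorem Good.sq (h : Good φ f 0) (hφ : Function.Bijective (nm φ)) : ∀ x, φ (φ x) = x ^ 2 := by
  intro k
  by_cases hk : k = 0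
  · subst hk; simp
  by_cases hk1 : k = 1
  · subst hk1; simp
  obtain ⟨l, hkl⟩ := hφ.2 (1 + nm φ k)
  have hc : (1 : F) + nm φ k ≠ 0 := by
    intro e
    exact hk1 (hφ.1 (by rw [nm_one]; exact (CharTwo.add_eq_zero.1 e).symm))
  have hl : l ≠ 0 := fun e => hc (by rw [← hkl, e, nm_zero])
  have h1 := (h.lin hφ hk hl hkl).1
  simp only [zero_mul, add_zero] at h1
  set a := φ k with ha
  set d := φ a with hd
  set m := φ l with hm'
  have hm : l * m = 1 + k * a := hkl
  have e1 : (1 + k * a) * l = 1 + k * a * k := by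
    simp only [nm] at h1
    grind
  have e2 : (1 + a * d) * m = 1 + a * d * a := by
    have := congrArg φ e1
    simpa only [map_add, map_one, map_mul, ← ha, ← hd, ← hm'] using this
  have ha1 : (1 : F) + a ≠ 0 := fun e =>
    hk1 ((map_eq_one_iff φ φ.injective).1 (CharTwo.add_eq_zero.1 e).symm)
  have ha0 : a ≠ 0 := by rw [ha]; simpa using hk
  have e3 : (1 + a * d * a) * (1 + k * a * k) = (1 + a * d) * (1 + k * a) * (1 + k * a) := by
    rw [← e1, ← e2]
    linear_combination (1 + a * d) * (1 + k * a) * hm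
  have e4 : (a * (1 + a)) * d = (a * (1 + a)) * k ^ 2 := by
    linear_combination (norm := (ring_nf; simp [even_num])) e3
  exact mul_left_cancel₀ (mul_ne_zero ha0 ha1) e4

/-- For `β = 0` the map is the one of the Suzuki group. -/
theorem Good.formula (h : Good φ f 0) (hsq : ∀ x, φ (φ x) = x ^ 2) {x y : F}
    (hxy : (x, y) ≠ (0 : F × F)) :
    f (x, y) = (y / (x * y + φ x * x ^ 2 + φ y), x / (x * y + φ x * x ^ 2 + φ y)) := by
  have hf0 : f (1, 0) = (0, 1) := h.fw
  have hf1 : f (1, 1) = (1, 1) := by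
    have := h.e_one.1
    rwa [zero_add] at this
  have key : ∀ c : F, f (1, c) = (c / (c + 1 + φ c), 1 / (c + 1 + φ c)) := by
    intro c
    by_cases hc : c = 0
    · subst hc; simp [hf0]
    by_cases hc1 : c = 1
    · subst hc1
      rw [hf1, map_one]
      simp [CharTwo.add_self_eq_zero]
    have hφc : φ c ≠ 0 := by simpa using hc
    have hc1' : (1 : F) + c ≠ 0 := fun e => hc1 (CharTwo.add_eq_zero.1 e).symm
    have hφ1c : (1 : F) + φ c ≠ 0 := fun e =>
      hc1 ((map_eq_one_iff φ φ.injective).1 (CharTwo.add_eq_zero.1 e).symm)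
    have hcc : φ c ≠ c := by
      intro e
      have := hsq c
      rw [e, e] at this
      have : c * (1 + c) = 0 := by grind
      exact (mul_eq_zero.1 this).elim hc hc1'
    have hΔ : c + 1 + φ c ≠ 0 := by
      intro e
      have e1 : φ c = 1 + c := by grind
      have := hsq c
      rw [e1, map_add, map_one, e1] at this
      have : c * (1 + c) = 0 := by grind
      exact (mul_eq_zero.1 this).elim hc hc1'
    have hcube : 1 + c + c ^ 2 ≠ 0 := by
      intro e
      have e3 : c ^ 3 = 1 := by grind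
      have e4 : φ c ^ 3 = 1 := by rw [← map_pow, e3, map_one]
      have e5 : (φ c + c) * (φ c + c ^ 2) = 0 ∨ φ c = 1 := by
        have : (φ c + 1) * ((φ c + c) * (φ c + c ^ 2)) = 0 := by grind
        rcases mul_eq_zero.1 this with h5 | h5
        · exact Or.inr (CharTwo.add_eq_zero.1 h5)
        · exact Or.inl h5
      rcases e5 with h5 | h5
      · rcases mul_eq_zero.1 h5 with h5 | h5
        · exact hcc (CharTwo.add_eq_zero.1 h5)
        · have h6 : φ c = c ^ 2 := CharTwo.add_eq_zero.1 h5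
          have := hsq c
          rw [h6, map_pow, h6] at this
          exact hc1 (by grind)
      · exact hc1 ((map_eq_one_iff φ φ.injective).1 h5)
    set k := φ c / c with hk'
    set l := (1 + φ c) / (1 + c) with hl'
    have hk : k ≠ 0 := div_ne_zero hφc hc
    have hl : l ≠ 0 := div_ne_zero hφ1c hc1'
    have hNk : nm φ k = c := by
      simp only [hk', nm, map_div₀, hsq]; field_simp
    have hNl : nm φ l = 1 + c := by
      simp only [hl', nm, map_div₀, map_add, map_one, hsq]; field_simp; grind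
    have r1 := h.eqII hk
    have r2 := h.eqII hl
    rw [hNk, zero_add, zero_add] at r1
    rw [hNl, zero_add, zero_add, ← add_assoc, CharTwo.add_self_eq_zero, zero_add] at r2
    obtain ⟨P, Q, hP⟩ : ∃ P Q, f (1, c) = (P, Q) := ⟨_, _, rfl⟩
    obtain ⟨P', Q', hP'⟩ : ∃ P Q, f (1, 1 + c) = (P, Q) := ⟨_, _, rfl⟩
    rw [hP, hP'] at r1 r2
    simp only [sc, pm, map_one, one_mul, zero_add, Prod.mk.injEq] at r1 r2
    have hk2 : k * φ k = c := hNk
    have hl2 : l * φ l = 1 + c := hNl
    rw [hk2] at r1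
    rw [hl2] at r2
    obtain ⟨r1, r1'⟩ := r1
    obtain ⟨r2, r2'⟩ := r2
    rw [hk'] at r1
    rw [hl'] at r2
    field_simp at r1 r2
    have eP : P * (c + 1 + φ c) = c := by
      refine mul_left_cancel₀ (a := φ c + c) (fun e => hcc (CharTwo.add_eq_zero.1 e)) ?_
      linear_combination (norm := (ring_nf; simp [even_num])) (1 + φ c) * r1 + c * r2
    have eP' : P' * (c + 1 + φ c) = 1 + c := by
      refine mul_left_cancel₀ hc ?_
      linear_combination (norm := (ring_nf; simp [even_num])) (c + 1 + φ c) * r1 + φ c * eP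
    have eQ : Q * (c + 1 + φ c) = 1 := by
      refine mul_left_cancel₀ hcube ?_
      linear_combination (norm := (ring_nf; simp [even_num])) (c + 1 + φ c) * ((1 + c) * r1' + r2') + eP + (1 + c) * eP'
    refine Prod.ext ?_ ?_
    · rw [hP]; exact (eq_div_iff hΔ).2 eP
    · rw [hP]; exact (eq_div_iff hΔ).2 eQ
  by_cases hx : x = 0
  · subst hx
    have hy : y ≠ 0 := fun e => hxy (by rw [e]; rfl)
    have hφy : φ y ≠ 0 := by simpa using hy
    have hNk : nm φ (φ y / y) = y := by simp only [nm, map_div₀, hsq]; field_simp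
    have := h.f_center (k := φ y / y) (div_ne_zero hφy hy)
    rw [hNk] at this
    rw [this]
    simp
  · have hφx : φ x ≠ 0 := by simpa using hx
    have e : ((x, y) : F × F) = sc φ x (1, y / (x * φ x)) := by
      simp only [sc, mul_one, Prod.mk.injEq, true_and]; field_simp
    conv_lhs => rw [e]
    rw [h.equiv x hx _ (mk_fst_ne_zero one_ne_zero), key]
    have eD : (y / (x * φ x) + 1 + φ (y / (x * φ x))) =
        (x * y + φ x * x ^ 2 + φ y) / (φ x * x ^ 2) := by
      rw [map_div₀, map_mul, hsq]; field_simp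
    rw [eD]
    simp only [sc, map_inv₀, Prod.mk.injEq]
    constructor <;> field_simp

end Cfsg.Agent.FGS75.ZTU
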