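import Cfsg.Agent.FGS75.ZTU.Algebra

/-!
# Coordinate frames of a rank one group with a kernel of type A

A frame consists of a point `a`, an involution `t` moving it, coordinates `c` on the kernel at `a`
and `d` on the two point stabilizer, inverted by `t`. The involution then induces a map on the
non-zero coordinates which satisfies the hypotheses of `Good` after normalizing `t`.
-/

set_option autoImplicit false
set_option linter.unusedSectionVars false
set_option linter.unusedVariables false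

namespace Cfsg.Agent.FGS75.ZTU

variable {F : Type} [Field F] [CharP F 2] {φ : F ≃+* F}
variable {G : Type*} [Group G] {Ω : Type*} [MulAction G Ω]

/-- A coordinate frame. -/
structure Frame (φ : F ≃+* F) (a : Ω) (t : G) (c : F × F → G) (d : F → G) : Prop where
  tsq : t * t = 1
  tmov : t • a ≠ a
  cmul : ∀ p q, c p * c q = c (pm φ p q)
  cfix : ∀ p, c p • a = a
  dmul : ∀ j k, j ≠ 0 → k ≠ 0 → d j * d k = d (j * k)
  dfix : ∀ k, k ≠ 0 → d k • a = a
  dfix' : ∀ k, k ≠ 0 → d k • t • a = t • a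
  conj : ∀ k, k ≠ 0 → ∀ p, d k * c p = c (sc φ k p) * d k
  tinv : ∀ k, k ≠ 0 → t * d k * t = d k⁻¹
  inj : ∀ p q, c p • t • a = c q • t • a → p = q
  surj : ∀ x : Ω, x ≠ a → ∃ p, c p • t • a = x
  stab : ∀ g : G, g • a = a → g • t • a = t • a → ∃ k, k ≠ 0 ∧ g = d k

variable {a : Ω} {t : G} {c : F × F → G} {d : F → G}

theorem Frame.c_zero (h : Frame φ a t c d) : c 0 = 1 := by
  have := h.cmul 0 0
  rwa [pm_zero_left, mul_eq_left] at this

theorem Frame.c_pinv (h : Frame φ a t c d) (p : F × F) : c (pinv φ p) = (c p)⁻¹ :=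
  eq_inv_of_mul_eq_one_right (by rw [h.cmul, pm_pinv, h.c_zero])

theorem Frame.d_one (h : Frame φ a t c d) : d 1 = 1 := by
  have := h.dmul 1 1 one_ne_zero one_ne_zero
  rwa [one_mul, mul_eq_left] at this

theorem Frame.d_inv (h : Frame φ a t c d) {k : F} (hk : k ≠ 0) : d k⁻¹ = (d k)⁻¹ :=
  eq_inv_of_mul_eq_one_right (by rw [h.dmul _ _ hk (inv_ne_zero hk), mul_inv_cancel₀ hk, h.d_one])

/-- The point with given coordinates. -/
def pt (a : Ω) (t : G) (c : F × F → G) (p : F × F) : Ω := c p • t • a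

theorem Frame.pt_zero (h : Frame φ a t c d) : pt a t c 0 = t • a := by
  rw [pt, h.c_zero, one_smul]

theorem Frame.pt_ne (h : Frame φ a t c d) (p : F × F) : pt a t c p ≠ a := by
  intro e
  apply h.tmov
  exact smul_left_cancel (c p) (e.trans (h.cfix p).symm)

theorem Frame.c_smul_pt (h : Frame φ a t c d) (p q : F × F) :
    c p • pt a t c q = pt a t c (pm φ p q) := by
  rw [pt, ← mul_smul, h.cmul, pt]

theorem Frame.d_smul_pt (h : Frame φ a t c d) {k : F} (hk : k ≠ 0) (p : F × F) :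
    d k • pt a t c p = pt a t c (sc φ k p) := by
  rw [pt, ← mul_smul, h.conj k hk, mul_smul, h.dfix' k hk, pt]

/-- The map induced by the involution. -/
noncomputable def fmap (a : Ω) (t : G) (c : F × F → G) (p : F × F) : F × F :=
  Function.invFun (pt a t c) (t • pt a t c p)

theorem Frame.t_smul_a (h : Frame φ a t c d) : t • (t • a) = a := by
  rw [← mul_smul, h.tsq, one_smul]

theorem Frame.t_smul_pt (h : Frame φ a t c d) {p : F × F} (hp : p ≠ 0) :
    t • pt a t c p = pt a t c (fmap a t c p) := by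
  have hne : t • pt a t c p ≠ a := by
    intro e
    refine hp (h.inj p 0 ?_)
    show pt a t c p = pt a t c 0
    rw [h.pt_zero]
    exact smul_left_cancel t (e.trans h.t_smul_a.symm)
  exact (Function.invFun_eq (h.surj _ hne)).symm

theorem Frame.fmap_ne (h : Frame φ a t c d) {p : F × F} (hp : p ≠ 0) : fmap a t c p ≠ 0 := by
  intro e
  have := h.t_smul_pt hp
  rw [e, h.pt_zero] at this
  exact h.pt_ne p (smul_left_cancel t this)

theorem Frame.fmap_inv (h : Frame φ a t c d) {p : F × F} (hp : p ≠ 0) :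
    fmap a t c (fmap a t c p) = p := by
  refine h.inj _ _ ?_
  show pt a t c _ = pt a t c p
  rw [← h.t_smul_pt (h.fmap_ne hp), ← h.t_smul_pt hp, ← mul_smul, h.tsq, one_smul]

theorem Frame.t_mul_d (h : Frame φ a t c d) {k : F} (hk : k ≠ 0) : t * d k = d k⁻¹ * t := by
  rw [← h.tinv k hk, mul_assoc, h.tsq, mul_one]

theorem Frame.fmap_sc (h : Frame φ a t c d) {k : F} (hk : k ≠ 0) {p : F × F} (hp : p ≠ 0) :
    fmap a t c (sc φ k p) = sc φ k⁻¹ (fmap a t c p) := by
  refine h.inj _ _ ?_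
  show pt a t c _ = pt a t c _
  rw [← h.t_smul_pt (sc_ne_zero φ hk hp), ← h.d_smul_pt hk, ← mul_smul, h.t_mul_d hk, mul_smul,
    h.t_smul_pt hp, h.d_smul_pt (inv_ne_zero hk)]

theorem z_ne_zero : ((0, 1) : F × F) ≠ 0 := fun e => one_ne_zero (α := F) (congrArg Prod.snd e)

theorem pm_z_self : pm φ (0, 1) ((0, 1) : F × F) = 0 := by
  ext
  · simp [pm]
  · simp [pm, CharTwo.add_self_eq_zero]

/-- The structure equation at the involution `(0, 1)`. -/
theorem Frame.struct (h : Frame φ a t c d) :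
    ∃ e : F, e ≠ 0 ∧ t * c (0, 1) * t =
      c (fmap a t c (0, 1)) * (d e * (t * c (pinv φ (fmap a t c (0, 1))))) := by
  set w := fmap a t c (0, 1) with hw
  have hga : (t * c (0, 1) * t) • a = pt a t c w := by
    rw [mul_smul, mul_smul]
    show t • pt a t c (0, 1) = _
    rw [h.t_smul_pt z_ne_zero]
  set g₁ := t * ((c w)⁻¹ * (t * c (0, 1) * t)) with hg₁
  have hg₁a : g₁ • a = a := by
    rw [hg₁, mul_smul, mul_smul, hga, pt, inv_smul_smul, h.t_smul_a]
  have hne : g₁ • t • a ≠ a := fun e => h.tmov (smul_left_cancel g₁ (e.trans hg₁a.symm))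
  obtain ⟨q, hq⟩ := h.surj _ hne
  have hfix : ((c q)⁻¹ * g₁) • a = a := by
    rw [mul_smul, hg₁a, inv_smul_eq_iff, h.cfix]
  have hfix' : ((c q)⁻¹ * g₁) • t • a = t • a := by
    rw [mul_smul, ← hq, inv_smul_smul]
  obtain ⟨k, hk, hk'⟩ := h.stab _ hfix hfix'
  have htt : t⁻¹ = t := inv_eq_of_mul_eq_one_right h.tsq
  have e1 : t * c (0, 1) * t = c w * (t * (c q * d k)) := by
    have : g₁ = c q * d k := by rw [← hk', mul_inv_cancel_left]
    rw [← this, hg₁, ← mul_assoc t t, h.tsq, one_mul, mul_inv_cancel_left]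
  have hz : (c ((0, 1) : F × F))⁻¹ = c (0, 1) :=
    inv_eq_of_mul_eq_one_right (by rw [h.cmul, pm_z_self, h.c_zero])
  have e2 : t * c (0, 1) * t = d k⁻¹ * (c (pinv φ q) * (t * c (pinv φ w))) := by
    have := congrArg (fun x : G => x⁻¹) e1
    simp only [mul_inv_rev, htt, hz, ← h.c_pinv, ← h.d_inv hk, mul_assoc] at this
    rw [mul_assoc]
    exact this
  have hk1 : k⁻¹ ≠ 0 := inv_ne_zero hk
  have e3 : d k⁻¹ * (c (pinv φ q) * (t * c (pinv φ w))) =
      c (sc φ k⁻¹ (pinv φ q)) * (d k⁻¹ * (t * c (pinv φ w))) := by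
    rw [← mul_assoc, h.conj _ hk1, mul_assoc]
  have e4 : sc φ k⁻¹ (pinv φ q) = w := by
    refine h.inj _ _ ?_
    show _ = pt a t c w
    rw [← hga, e2, e3]
    simp only [mul_smul, h.cfix, h.dfix' _ hk1]
  exact ⟨k⁻¹, hk1, by rw [e2, e3, e4]⟩

/-- The image of `(0, 1)` is not central, if there is no element of order three. -/
theorem Frame.fst_ne_zero (h : Frame φ a t c d) (h3 : ∀ g : G, g * g * g = 1 → g = 1)
    (hsq : ∀ x : F, ∃ y, y * y = x) : (fmap a t c (0, 1)).1 ≠ 0 := by
  intro h0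
  obtain ⟨e, he, hS⟩ := h.struct
  set w := fmap a t c (0, 1) with hw
  have hpinv : pinv φ w = w := by
    ext
    · rfl
    · show w.2 + φ w.1 * w.1 = w.2
      rw [h0, mul_zero, add_zero]
  rw [hpinv] at hS
  -- `w` is `e • (0, 1)`
  have hew : sc φ e (0, 1) = w := by
    have h1 := congrArg (fun g : G => g • t • a) hS
    simp only [mul_smul, h.t_smul_a, h.cfix] at h1
    -- `t • a` is moved to itself
    have h2 : c w • d e • t • pt a t c w = t • a := h1.symm
    rw [h.t_smul_pt (h.fmap_ne z_ne_zero), hw, h.fmap_inv z_ne_zero, h.d_smul_pt he,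
      h.c_smul_pt, ← hw, ← h.pt_zero] at h2
    have h3' := h.inj _ _ h2
    have h5 : w.2 + e * φ e = 0 := by
      have := congrArg Prod.snd h3'
      simp only [pm, sc, h0, map_zero, zero_mul, add_zero, mul_one, Prod.snd_zero] at this
      exact this
    ext
    · simp [sc, h0]
    · simp only [sc, mul_one]
      exact (CharTwo.add_eq_zero.1 h5).symm
  obtain ⟨s, hs⟩ := hsq e
  have hs0 : s ≠ 0 := by
    rintro rfl
    exact he (by rw [← hs, zero_mul])
  set y := c (sc φ s (0, 1)) with hy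
  have hy2 : y * y = 1 := by
    rw [hy, h.cmul, ← sc_pm, pm_z_self, show sc φ s (0 : F × F) = 0 by simp [sc], h.c_zero]
  have hkey : t * y * t = y * (t * y) := by
    have e1 : y = d s * c (0, 1) * d s⁻¹ := by
      rw [h.conj s hs0, mul_assoc, h.d_inv hs0, mul_inv_cancel, mul_one]
    calc t * y * t = t * d s * c (0, 1) * (d s⁻¹ * t) := by rw [e1]; group
      _ = d s⁻¹ * t * c (0, 1) * (t * d s) := by
          rw [h.t_mul_d hs0]
      _ = d s⁻¹ * (t * c (0, 1) * t) * d s := by group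
      _ = d s⁻¹ * (c w * (d e * (t * c w))) * d s := by rw [hS]
      _ = (d s⁻¹ * c w) * d e * t * (c w * d s) := by group
      _ = (c (sc φ s⁻¹ w) * d s⁻¹) * d e * t * (d s * c (sc φ s⁻¹ w)) := by
          rw [h.conj _ (inv_ne_zero hs0), h.conj s hs0 (sc φ s⁻¹ w), sc_sc_inv φ hs0]
      _ = c (sc φ s⁻¹ w) * (d s⁻¹ * d e * (t * d s)) * c (sc φ s⁻¹ w) := by group
      _ = c (sc φ s⁻¹ w) * (d (s⁻¹ * e * s⁻¹) * t) * c (sc φ s⁻¹ w) := by
          rw [h.t_mul_d hs0, ← mul_assoc (d s⁻¹ * d e), h.dmul _ _ (inv_ne_zero hs0) he,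
            h.dmul _ _ (mul_ne_zero (inv_ne_zero hs0) he) (inv_ne_zero hs0)]
      _ = y * (t * y) := by
          have e5 : s⁻¹ * e * s⁻¹ = 1 := by rw [← hs]; field_simp
          have e6 : sc φ s⁻¹ w = sc φ s (0, 1) := by
            rw [← hew, sc_sc, ← hs, ← mul_assoc, inv_mul_cancel₀ hs0, one_mul]
          rw [e5, e6, h.d_one, one_mul, mul_assoc]
  have h1 : t * y * (t * y) * (t * y) = 1 := by
    calc t * y * (t * y) * (t * y) = (t * y * t) * y * (t * y) := by group
      _ = y * t * (y * y) * t * y := by rw [hkey]; group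
      _ = 1 := by rw [hy2, mul_one, mul_assoc y t t, h.tsq, mul_one, hy2]
  have h2 := h3 _ h1
  apply h.tmov
  rw [eq_inv_of_mul_eq_one_left h2, ← h.c_pinv]
  exact h.cfix _

/-- Changing the involution. -/
theorem Frame.twist (h : Frame φ a t c d) {r : F} (hr : r ≠ 0) : Frame φ a (t * d r) c d := by
  have e : (t * d r) • a = t • a := by rw [mul_smul, h.dfix r hr]
  refine
    { tsq := ?_, tmov := e ▸ h.tmov, cmul := h.cmul, cfix := h.cfix, dmul := h.dmul,
      dfix := h.dfix, dfix' := fun k hk => by rw [e]; exact h.dfix' k hk, conj := h.conj,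
      tinv := fun k hk => ?_, inj := fun p q => by rw [e]; exact h.inj p q,
      surj := fun x hx => by rw [e]; exact h.surj x hx,
      stab := fun g h1 h2 => h.stab g h1 (by rwa [e] at h2) }
  · calc t * d r * (t * d r) = t * d r * t * d r := by group
      _ = 1 := by rw [h.tinv r hr, h.dmul _ _ (inv_ne_zero hr) hr, inv_mul_cancel₀ hr, h.d_one]
  · calc t * d r * d k * (t * d r) = t * (d r * d k) * t * d r := by group
      _ = d k⁻¹ := by
        rw [h.dmul _ _ hr hk, h.tinv _ (mul_ne_zero hr hk),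
          h.dmul _ _ (inv_ne_zero (mul_ne_zero hr hk)) hr]
        congr 1
        field_simp

/-- Changing the involution normalizes the image of `(0, 1)`. -/
theorem Frame.normalise (h : Frame φ a t c d) (h3 : ∀ g : G, g * g * g = 1 → g = 1)
    (hsq : ∀ x : F, ∃ y, y * y = x) :
    ∃ t' : G, Frame φ a t' c d ∧ (fmap a t' c (0, 1)).1 = 1 := by
  have hα := h.fst_ne_zero h3 hsq
  set α := (fmap a t c (0, 1)).1 with hα'
  refine ⟨t * d α, h.twist hα, ?_⟩
  have e : (t * d α) • a = t • a := by rw [mul_smul, h.dfix α hα]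
  have hpt : ∀ p, pt a (t * d α) c p = pt a t c p := fun p => by rw [pt, pt, e]
  have key : fmap a (t * d α) c (0, 1) = sc φ α⁻¹ (fmap a t c (0, 1)) := by
    refine (h.twist hα).inj _ _ ?_
    show pt a (t * d α) c _ = pt a (t * d α) c _
    rw [← (h.twist hα).t_smul_pt z_ne_zero, hpt, hpt, mul_smul, h.d_smul_pt hα,
      h.t_smul_pt (sc_ne_zero φ hα z_ne_zero), h.fmap_sc hα z_ne_zero]
  rw [key]
  exact inv_mul_cancel₀ hα

/-- A normalized frame gives a `Good` map. -/
theorem Frame.good (h : Frame φ a t c d) {β : F} (hz : fmap a t c (0, 1) = (1, β)) :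
    Good φ (fmap a t c) β := by
  obtain ⟨e, he, hS⟩ := h.struct
  rw [hz] at hS
  have hpinv : pinv φ (1, β) = (1, β + 1) := by simp [pinv]
  rw [hpinv] at hS
  have hne : ((1, β + 1) : F × F) ≠ 0 := fun e => one_ne_zero (α := F) (congrArg Prod.fst e)
  refine ⟨fun p hp => h.fmap_ne hp, fun p hp => h.fmap_inv hp,
    fun k hk p hp => h.fmap_sc hk hp, hz, e, he, ?_, fun v hv h1 h2 => ?_⟩
  · have h1 := congrArg (fun g : G => g • t • a) hS
    simp only [mul_smul, h.t_smul_a, h.cfix] at h1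
    have h2 : c (1, β) • d e • t • pt a t c (1, β + 1) = t • a := h1.symm
    rw [h.t_smul_pt hne, h.d_smul_pt he, h.c_smul_pt, ← h.pt_zero] at h2
    have h3 := h.inj _ _ h2
    rw [← hpinv] at h3 ⊢
    set X := sc φ e (fmap a t c (pinv φ (1, β))) with hX
    have hX1 : 1 + X.1 = 0 := congrArg Prod.fst h3
    have hX2 : β + X.2 + φ 1 * X.1 = 0 := congrArg Prod.snd h3
    rw [map_one, one_mul] at hX2
    have hX1' : X.1 = 1 := (CharTwo.add_eq_zero.1 hX1).symm
    ext
    · exact hX1'
    · show X.2 = β + φ 1 * 1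
      rw [hX1'] at hX2
      rw [map_one, one_mul]
      linear_combination (norm := (ring_nf; simp [even_num])) hX2
  · have h3 := congrArg (fun g : G => g • pt a t c v) hS
    simp only [mul_smul] at h3
    rw [h.t_smul_pt hv, h.c_smul_pt, h.t_smul_pt h1, h.c_smul_pt, h.t_smul_pt h2,
      h.d_smul_pt he, h.c_smul_pt] at h3
    exact h.inj _ _ h3

/-- The inverse of `(x, y) ↦ (φ x, y + x φ x)`. -/
def flipC (φ : F ≃+* F) (p : F × F) : F × F := (φ.symm p.1, p.2 + φ.symm p.1 * p.1)

/-- Replacing `φ` by its inverse. -/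
theorem Frame.flip (h : Frame φ a t c d) :
    Frame φ.symm a t (fun p => c (flipC φ p)) (fun k => d (φ.symm k)) := by
  have hk : ∀ k : F, k ≠ 0 → φ.symm k ≠ 0 := fun k hk e =>
    hk (by simpa using congrArg φ e)
  refine
    { tsq := h.tsq, tmov := h.tmov, cmul := fun p q => ?_, cfix := fun p => h.cfix _,
      dmul := fun j k hj hk' => ?_, dfix := fun k hk' => h.dfix _ (hk k hk'),
      dfix' := fun k hk' => h.dfix' _ (hk k hk'), conj := fun k hk' p => ?_,
      tinv := fun k hk' => ?_, inj := fun p q e => ?_, surj := fun x hx => ?_,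
      stab := fun g h1 h2 => ?_ }
  · rw [h.cmul]
    congr 1
    ext
    · simp [flipC, pm]
    · simp only [flipC, pm, map_add, RingEquiv.apply_symm_apply]
      linear_combination (norm := (ring_nf; simp [even_num])) (0 : F) = 0
  · rw [h.dmul _ _ (hk j hj) (hk k hk'), map_mul]
  · rw [h.conj _ (hk k hk')]
    congr 2
    ext
    · simp [flipC, sc]
    · simp only [flipC, sc, RingEquiv.apply_symm_apply, map_mul]
      ring
  · rw [h.tinv _ (hk k hk'), map_inv₀]
  · have e' := h.inj _ _ e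
    simp only [flipC, Prod.mk.injEq, EmbeddingLike.apply_eq_iff_eq] at e'
    obtain ⟨e1, e2⟩ := e'
    rw [e1] at e2
    exact Prod.ext e1 (add_right_cancel e2)
  · obtain ⟨⟨u, v⟩, hp⟩ := h.surj x hx
    refine ⟨(φ u, v + u * φ u), ?_⟩
    show c (flipC φ _) • t • a = x
    rw [show flipC φ (φ u, v + u * φ u) = (u, v) by simp [flipC, add_assoc, CharTwo.add_self_eq_zero]]
    exact hp
  · obtain ⟨k, hk', e⟩ := h.stab g h1 h2
    exact ⟨φ k, by simpa using hk', by simp [e]⟩

/-- In a normalized frame with `β = 1` the flipped frame is normalized with `β = 0`. -/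
theorem Frame.flip_z (h : Frame φ a t c d) (hz : fmap a t c (0, 1) = (1, 1)) :
    fmap a t (fun p => c (flipC φ p)) (0, 1) = (1, 0) := by
  refine h.flip.inj _ _ ?_
  show pt a t (fun p => c (flipC φ p)) _ = pt a t (fun p => c (flipC φ p)) _
  rw [← h.flip.t_smul_pt z_ne_zero]
  show t • pt a t c (flipC φ (0, 1)) = pt a t c (flipC φ (1, 0))
  rw [show flipC φ (0, 1) = (0, 1) by simp [flipC], show flipC φ (1, 0) = (1, 1) by simp [flipC],
    h.t_smul_pt z_ne_zero, hz]

end Cfsg.Agent.FGS75.ZTU
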