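import Cfsg.Agent.FGS75.ZTU.Frame
import Cfsg.Agent.Suzuki.Structure
import Cfsg.Agent.Suzuki.LieModel

/-!
# A group with a frame is a Suzuki group
-/

set_option autoImplicit false
set_option linter.unusedSectionVars false

namespace Cfsg.Agent.FGS75.ZTU

open Cfsg.Agent.Suzuki
open MulAction

variable {F : Type} [Field F] [Fintype F] {m : ℕ} [hS : SuzukiField F m] {φ : F ≃+* F}

/-- An automorphism of odd order whose square is the Frobenius map is `θ`. -/
theorem eq_th (hsq : ∀ x, φ (φ x) = x ^ 2) (hodd : Odd (orderOf φ)) (x : F) :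
    φ x = th F m x := by
  have happ : ∀ (σ τ : F ≃+* F) (y : F), (σ * τ) y = σ (τ y) := fun _ _ _ => rfl
  have hpow : ∀ i : ℕ, ∀ y : F, (φ ^ (2 * i)) y = y ^ (2 ^ i) := by
    intro i
    induction i with
    | zero => intro y; simp
    | succ i ih =>
      intro y
      rw [show 2 * (i + 1) = 2 * i + 1 + 1 by ring, pow_succ, pow_succ, happ, happ, hsq, ih,
        ← pow_mul, ← pow_succ']
  have h1 : φ ^ (2 * (2 * m + 1)) = 1 := RingEquiv.ext fun y => by
    rw [hpow, ← hS.card, FiniteField.pow_card]; rfl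
  have h2 : orderOf φ ∣ 2 * m + 1 :=
    (Nat.coprime_two_right.2 hodd).dvd_of_dvd_mul_left (orderOf_dvd_of_pow_eq_one h1)
  rw [th_apply, ← hpow (m + 1) x, show 2 * (m + 1) = 2 * m + 1 + 1 by ring, pow_succ,
    orderOf_dvd_iff_pow_eq_one.1 h2, one_mul]

variable {G : Type*} [Group G] [Finite G] {Ω : Type*} [MulAction G Ω] [FaithfulSMul G Ω]
variable {a : Ω} {t : G} {c : F × F → G} {d : F → G}

/-- A group with a frame with `β = 0` and the right order is a Suzuki group. -/
theorem Frame.iso (h : Frame φ a t c d) (hodd : Odd (orderOf φ))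
    (hbij : Function.Bijective (nm φ)) (hz : fmap a t c (0, 1) = (1, 0))
    (hcard : Nat.card G = Nat.card (Cfsg.Sz F m)) : Nonempty (G ≃* Cfsg.Sz F m) := by
  classical
  haveI : Nonempty Ω := ⟨a⟩
  have hg := h.good hz
  have hsq := hg.sq hbij
  have hφ : ∀ x, φ x = th F m x := eq_th hsq hodd
  -- the bijection with the ovoid
  let ε : Ω → suzukiOvoid F m := fun x =>
    if x = a then oInf F m else
      oPt F m (Function.invFun (pt a t c) x).1 (Function.invFun (pt a t c) x).2
  have hεa : ε a = oInf F m := if_pos rfl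
  have hεp : ∀ p : F × F, ε (pt a t c p) = oPt F m p.1 p.2 := fun p => by
    have hinj : Function.Injective (pt a t c) := fun p q e => h.inj p q e
    simp only [ε, if_neg (h.pt_ne p), Function.leftInverse_invFun hinj p]
  have hεinj : Function.Injective ε := by
    intro x y e
    by_cases hx : x = a
    · by_cases hy : y = a
      · rw [hx, hy]
      · obtain ⟨q, hq⟩ := h.surj y hy
        rw [hx, hεa, ← hq] at e
        exact absurd (e.trans (hεp q)).symm (oPt_ne_oInf _ _)
    · obtain ⟨p, hp⟩ := h.surj x hx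
      by_cases hy : y = a
      · rw [hy, hεa, ← hp] at e
        exact absurd ((hεp p).symm.trans e) (oPt_ne_oInf _ _)
      · obtain ⟨q, hq⟩ := h.surj y hy
        rw [← hp, ← hq] at e ⊢
        have e' : oPt F m p.1 p.2 = oPt F m q.1 q.2 := (hεp p).symm.trans (e.trans (hεp q))
        obtain ⟨e1, e2⟩ := oPt_inj e'
        rw [show p = q from Prod.ext e1 e2]
  have hεsurj : Function.Surjective ε := by
    intro o
    rcases ovoid_cases o with rfl | ⟨x, y, rfl⟩
    · exact ⟨a, hεa⟩
    · exact ⟨_, hεp (x, y)⟩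
  -- elements with an image
  let K : Subgroup G :=
    { carrier := {g | ∃ s : Cfsg.Sz F m, ∀ x, ε (g • x) = s • ε x}
      one_mem' := ⟨1, fun x => by rw [one_smul, one_smul]⟩
      mul_mem' := by
        rintro g g' ⟨s, hs⟩ ⟨s', hs'⟩
        exact ⟨s * s', fun x => by rw [mul_smul, mul_smul, hs, hs']⟩
      inv_mem' := by
        rintro g ⟨s, hs⟩
        exact ⟨s⁻¹, fun x => by rw [eq_inv_smul_iff, ← hs, smul_inv_smul]⟩ }
  have hcK : ∀ p, c p ∈ K := fun p => ⟨gT p.1 p.2, fun x => by
    by_cases hx : x = a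
    · rw [hx, h.cfix, hεa, gT_smul_oInf]
    · obtain ⟨q, hq⟩ := h.surj x hx
      rw [← hq]
      show ε (c p • pt a t c q) = _ • ε (pt a t c q)
      rw [h.c_smul_pt, hεp, hεp, gT_smul_oPt]
      simp only [pm, hφ]
      congr 1 <;> ring⟩
  have hdK : ∀ k, k ≠ 0 → d k ∈ K := fun k hk => by
    obtain ⟨r, hr⟩ := sq_surjective (F := F) k
    simp only at hr
    have hr0 : r ≠ 0 := by rintro rfl; exact hk (by rw [← hr]; ring)
    refine ⟨gD (Units.mk0 r hr0), fun x => ?_⟩
    by_cases hx : x = a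
    · rw [hx, h.dfix k hk, hεa, gD_smul_oInf]
    · obtain ⟨q, hq⟩ := h.surj x hx
      rw [← hq]
      show ε (d k • pt a t c q) = _ • ε (pt a t c q)
      rw [h.d_smul_pt hk, hεp, hεp, gD_smul_oPt]
      simp only [sc, hφ, Units.val_mk0, ← hr, map_pow]
      congr 1
      ring
  have htK : t ∈ K := ⟨gW F m, fun x => by
    by_cases hx : x = a
    · rw [hx, hεa, gW_smul_oInf, ← h.pt_zero, hεp]
      rfl
    · obtain ⟨q, hq⟩ := h.surj x hx
      rw [← hq]
      show ε (t • pt a t c q) = _ • ε (pt a t c q)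
      by_cases hq0 : q = 0
      · rw [hq0, h.pt_zero, h.t_smul_a, hεa]
        show _ = gW F m • ε (t • a)
        rw [← h.pt_zero, hεp]
        exact gW_smul_oPt_zero.symm
      · obtain ⟨u, v⟩ := q
        rw [h.t_smul_pt hq0, hg.formula hsq hq0, hεp, hεp, gW_smul_oPt (by
          by_contra hcon
          push Not at hcon
          exact hq0 (Prod.ext hcon.1 hcon.2))]
        simp only [ovf, hφ]⟩
  have htop : ∀ g : G, g ∈ K := by
    have hstab : ∀ g : G, g • a = a → g ∈ K := by
      intro g hga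
      obtain ⟨q, hq⟩ := h.surj (g • t • a) fun e =>
        h.tmov (smul_left_cancel g (e.trans hga.symm))
      obtain ⟨k, hk, hk'⟩ := h.stab ((c q)⁻¹ * g)
        (by rw [mul_smul, hga, inv_smul_eq_iff, h.cfix]) (by rw [mul_smul, ← hq, inv_smul_smul])
      rw [← mul_inv_cancel_left (c q) g, hk']
      exact K.mul_mem (hcK q) (hdK k hk)
    intro g
    by_cases hga : g • a = a
    · exact hstab g hga
    · obtain ⟨p, hp⟩ := h.surj _ hga
      have h1 : ((c p * t)⁻¹ * g) • a = a := by
        rw [mul_smul, inv_smul_eq_iff, mul_smul]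
        exact hp.symm
      rw [← mul_inv_cancel_left (c p * t) g]
      exact K.mul_mem (K.mul_mem (hcK p) htK) (hstab _ h1)
  haveI := sz_faithful (F := F) (m := m)
  choose s hs using fun g => htop g
  have huniq : ∀ {u v : Cfsg.Sz F m}, (∀ x, u • ε x = v • ε x) → u = v := fun {u v} e =>
    FaithfulSMul.eq_of_smul_eq_smul (α := suzukiOvoid F m) fun o => by
      obtain ⟨x, rfl⟩ := hεsurj o
      exact e x
  let ψ : G →* Cfsg.Sz F m := MonoidHom.mk' s fun g g' => huniq fun x => by
    rw [← hs, mul_smul, mul_smul, hs, hs]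
  have hψ : Function.Injective ψ := fun g g' e => FaithfulSMul.eq_of_smul_eq_smul (α := Ω) fun x =>
    hεinj (by
      rw [hs, hs]
      exact congrArg (fun u : Cfsg.Sz F m => u • ε x) e)
  exact ⟨MulEquiv.ofBijective ψ ((Nat.bijective_iff_injective_and_card ψ).2 ⟨hψ, hcard⟩)⟩

end Cfsg.Agent.FGS75.ZTU
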